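import Groth.Agent.EssZeroLib.Limit

/-!
# Formal limits of cohomology along quotients of a module
-/

set_option autoImplicit false
set_option linter.unusedSectionVars false
set_option maxHeartbeats 1000000
set_option backward.isDefEq.respectTransparency false
set_option backward.isDefEq.respectTransparency.types false
universe u

open CategoryTheory CategoryTheory.Limits AlgebraicGeometry TopologicalSpace Opposite

noncomputable section

namespace EssZeroLib

variable {k : Type u} [Field k] {X : Scheme.{u}} [X.Over (Spec (CommRingCat.of k))]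

/-- The kernel of one quotient inside that of another with the zero map on cohomology up to degree `n`. -/
def ZeroStepMod (k : Type u) [Field k] [X.Over (Spec (CommRingCat.of k))] (n : ℕ) {F A B : X.Modules}
    (a : F ⟶ A) (b : F ⟶ B) : Prop :=
  ∃ i : kernel a ⟶ kernel b, i ≫ kernel.ι b = kernel.ι a ∧
    ∀ j : ℕ, j ≤ n → ∀ x, CurvLib.hMap (k := k) i j x = 0

variable {n : ℕ} {F : X.Modules} {Q : ℕ → X.Modules} (π : ∀ m, F ⟶ Q m) [∀ m, Epi (π m)]
  (t : ∀ m, Q (m + 1) ⟶ Q m) (ht : ∀ m, π (m + 1) ≫ t m = π m)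
  (hz : ∀ p : ℕ, ∃ q : ℕ, p ≤ q ∧ ZeroStepMod k n (π q) (π p))

theorem quot_shortExact (m : ℕ) :
    (ShortComplex.mk (kernel.ι (π m)) (π m) (kernel.condition (π m))).ShortExact :=
  ShortComplex.ShortExact.mk (ShortComplex.exact_kernel (π m))

include hz in
theorem injective_limit_mod (i : ℕ) (hi : i ≤ n) (x : Coh.HH X F i)
    (hx : ∀ m, CurvLib.hMap (k := k) (π m) i x = 0) : x = 0 := by
  obtain ⟨q, -, a, ha, hz⟩ := hz 0
  obtain ⟨z, rfl⟩ : x ∈ LinearMap.range (CurvLib.hMap (k := k) (kernel.ι (π q)) i) :=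
    (CurvLib.exact₂ (quot_shortExact π q) i).ge (hx q)
  rw [← ha, CurvLib.hMap_comp, hz i hi, map_zero]

include ht in
theorem exists_transition {p q : ℕ} (h : p ≤ q) (i : ℕ) (y : ∀ m, Coh.HH X (Q m) i)
    (hy : ∀ m, CurvLib.hMap (k := k) (t m) i (y (m + 1)) = y m) :
    ∃ τ : Q q ⟶ Q p, π q ≫ τ = π p ∧ CurvLib.hMap (k := k) τ i (y q) = y p := by
  induction q, h using Nat.le_induction with
  | base =>
    refine ⟨𝟙 _, Category.comp_id _, ?_⟩
    rw [CurvLib.hMap_apply, CategoryTheory.Functor.map_id]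
    exact Sheaf.H.map_id_apply _
  | succ q hq ih =>
    obtain ⟨τ, h1, h2⟩ := ih
    exact ⟨t q ≫ τ, by rw [← Category.assoc, ht, h1], by rw [CurvLib.hMap_comp, hy, h2]⟩

include ht hz in
theorem surjective_limit_mod (i : ℕ) (hi : i < n) (y : ∀ m, Coh.HH X (Q m) i)
    (hy : ∀ m, CurvLib.hMap (k := k) (t m) i (y (m + 1)) = y m) :
    ∃ x : Coh.HH X F i, ∀ m, CurvLib.hMap (k := k) (π m) i x = y m := by
  have hlift : ∀ p, ∃ z, CurvLib.hMap (k := k) (π p) i z = y p := fun p => by
    obtain ⟨q, hpq, a, ha, hz⟩ := hz p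
    obtain ⟨τ, hτ, hτy⟩ := exists_transition π t ht hpq i y hy
    let φ : ShortComplex.mk (kernel.ι (π q)) (π q) (kernel.condition (π q)) ⟶
        ShortComplex.mk (kernel.ι (π p)) (π p) (kernel.condition (π p)) :=
      ShortComplex.homMk a (𝟙 _) τ (ha.trans (Category.comp_id _).symm) ((Category.id_comp _).trans hτ.symm)
    have h : y p ∈ LinearMap.ker (CurvLib.hDel (k := k) (quot_shortExact π p) i) := by
      rw [LinearMap.mem_ker, ← hτy]
      exact (hDel_natural (quot_shortExact π q) (quot_shortExact π p) φ i _).trans (hz (i + 1) hi _)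
    rw [← CurvLib.exact₃] at h
    exact h
  choose z hzl using hlift
  choose q hpq a ha hz' using hz
  have hdown : ∀ {p r : ℕ}, p ≤ r → CurvLib.hMap (k := k) (π p) i (z r) = y p := fun {p r} h => by
    obtain ⟨τ, hτ, hτy⟩ := exists_transition π t ht h i y hy
    rw [← hτ, CurvLib.hMap_comp, hzl r, hτy]
  refine ⟨z (q 0), fun m => ?_⟩
  let r := max m (q 0)
  have e : z (q 0) = z r := by
    rw [← sub_eq_zero]
    obtain ⟨w, hw⟩ : z (q 0) - z r ∈ LinearMap.range (CurvLib.hMap (k := k) (kernel.ι (π (q 0))) i) :=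
      (CurvLib.exact₂ (quot_shortExact π (q 0)) i).ge (by
        show CurvLib.hMap (k := k) (π (q 0)) i (z (q 0) - z r) = 0
        rw [map_sub, hdown le_rfl, hdown (le_max_right m (q 0)), sub_self])
    rw [← hw, ← ha 0, CurvLib.hMap_comp, hz' 0 i hi.le, map_zero]
  rw [e]
  exact hdown (le_max_left m (q 0))

end EssZeroLib
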