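import Groth.Agent.CurvLib.Euler
import Groth.Agent.CurvLib.Divisor
import Groth.Agent.LefAlgzLib.Hom

/-!
# The formal limit from an essentially zero system of ideals
-/

set_option autoImplicit false
set_option linter.unusedSectionVars false
set_option maxHeartbeats 1000000
set_option backward.isDefEq.respectTransparency false
set_option backward.isDefEq.respectTransparency.types false
universe u

open CategoryTheory CategoryTheory.Limits AlgebraicGeometry

noncomputable section

namespace EssZeroLib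

variable {k : Type u} [Field k] {X : Scheme.{u}} [X.Over (Spec (CommRingCat.of k))]

/-- The connecting maps are natural. -/
theorem hDel_natural {S S' : ShortComplex X.Modules} (hS : S.ShortExact) (hS' : S'.ShortExact) (φ : S ⟶ S')
    (p : ℕ) (x : Coh.HH X S.X₃ p) :
    CurvLib.hDel (k := k) hS' p (CurvLib.hMap (k := k) φ.τ₃ p x) =
      CurvLib.hMap (k := k) φ.τ₁ (p + 1) (CurvLib.hDel (k := k) hS p x) := by
  have hA := QCohLib.toAbF_shortExact hS
  have hB := QCohLib.toAbF_shortExact hS'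
  let ψ := (QCohLib.toAbF X).mapShortComplex.map φ
  show (Abelian.Ext.comp x (Abelian.Ext.mk₀ ψ.τ₃) (add_zero p)).comp hB.extClass rfl =
    (Abelian.Ext.comp x hA.extClass rfl).comp (Abelian.Ext.mk₀ ψ.τ₁) (add_zero (p + 1))
  rw [Abelian.Ext.comp_assoc_of_second_deg_zero, ← ShortComplex.ShortExact.extClass_naturality hA hB ψ,
    Abelian.Ext.comp_assoc_of_third_deg_zero]

theorem hMap_zero {A B : X.Modules} (p : ℕ) (x : Coh.HH X A p) :
    CurvLib.hMap (k := k) (0 : A ⟶ B) p x = 0 := by
  rw [CurvLib.hMap_apply, Functor.map_zero]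
  exact (congrArg (fun e => Abelian.Ext.comp x e (add_zero p)) (Abelian.Ext.mk₀_zero _ _)).trans
    (Abelian.Ext.comp_zero ..)

theorem exists_incl {I J : X.IdealSheafData} (h : I ≤ J) :
    ∃ i : ClSub.idealMod I ⟶ ClSub.idealMod J, i ≫ ClSub.idealModι J = ClSub.idealModι I := by
  refine ⟨kernel.lift _ (ClSub.idealModι I) ?_, kernel.lift_ι _ _ _⟩
  rw [← LefAlgzLib.toSubscheme_quotMap h, ← Category.assoc, ClSub.idealModι, kernel.condition, zero_comp]

/-- An ideal inside another with the zero map on cohomology up to degree `n`. -/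
def ZeroStep (k : Type u) [Field k] [X.Over (Spec (CommRingCat.of k))] (n : ℕ) (I J : X.IdealSheafData) : Prop :=
  ∃ i : ClSub.idealMod I ⟶ ClSub.idealMod J, i ≫ ClSub.idealModι J = ClSub.idealModι I ∧
    ∀ j : ℕ, j ≤ n → ∀ x, CurvLib.hMap (k := k) i j x = 0

theorem ZeroStep.mono {n : ℕ} {I J I' J' : X.IdealSheafData} (h : ZeroStep k n I J) (hI : I' ≤ I) (hJ : J ≤ J') :
    ZeroStep k n I' J' := by
  obtain ⟨i, hi, hz⟩ := h
  obtain ⟨a, ha⟩ := exists_incl hI
  obtain ⟨b, hb⟩ := exists_incl hJ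
  refine ⟨a ≫ i ≫ b, by rw [Category.assoc, Category.assoc, hb, hi, ha], fun j hj x => ?_⟩
  rw [CurvLib.hMap_comp, CurvLib.hMap_comp, hz j hj, map_zero]

variable {n : ℕ} (J : ℕ → X.IdealSheafData) (hle : ∀ m, J (m + 1) ≤ J m)
  (hz : ∀ p : ℕ, ∃ q : ℕ, p ≤ q ∧ ZeroStep k n (J q) (J p))

local notation "Q" => fun m : ℕ => ClSub.toSubscheme (J m)

include hle in
theorem le_of_le {p q : ℕ} (h : p ≤ q) : J q ≤ J p := antitone_nat_of_succ_le hle h

include hz in
theorem injective_limit (i : ℕ) (hi : i ≤ n) (x : Coh.HH X (Coh.structureModule X) i)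
    (hx : ∀ m, CurvLib.hMap (k := k) (Q m) i x = 0) : x = 0 := by
  obtain ⟨q, -, a, ha, hz⟩ := hz 0
  obtain ⟨z, rfl⟩ : x ∈ LinearMap.range (CurvLib.hMap (k := k) (ClSub.idealModι (J q)) i) :=
    (CurvLib.exact₂ (CurvLib.idealSeq_shortExact (J q)) i).ge (hx q)
  rw [← ha, CurvLib.hMap_comp, hz i hi, map_zero]

include hle hz in
theorem surjective_limit (i : ℕ) (hi : i < n) (y : ∀ m, Coh.HH X (ClSub.quotMod (J m)) i)
    (hy : ∀ m, CurvLib.hMap (k := k) (Lef.quotMap (hle m)) i (y (m + 1)) = y m) :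
    ∃ x : Coh.HH X (Coh.structureModule X) i, ∀ m, CurvLib.hMap (k := k) (Q m) i x = y m := by
  have hcomp : ∀ (m : ℕ) (z : Coh.HH X (Coh.structureModule X) i),
      CurvLib.hMap (k := k) (Lef.quotMap (hle m)) i (CurvLib.hMap (k := k) (Q (m + 1)) i z) =
        CurvLib.hMap (k := k) (Q m) i z := fun m z => by
    rw [← CurvLib.hMap_comp, LefAlgzLib.toSubscheme_quotMap]
  have htr : ∀ {p q : ℕ} (h : p ≤ q), CurvLib.hMap (k := k) (Lef.quotMap (le_of_le J hle h)) i (y q) = y p := by
    intro p q h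
    induction q, h using Nat.le_induction with
    | base =>
      have e : Lef.quotMap (le_of_le J hle (le_refl p)) = 𝟙 _ := by
        haveI := CurvLib.epi_toSubscheme (J p)
        rw [← cancel_epi (ClSub.toSubscheme (J p)), LefAlgzLib.toSubscheme_quotMap, Category.comp_id]
      rw [e, CurvLib.hMap_apply, CategoryTheory.Functor.map_id]
      exact Sheaf.H.map_id_apply _
    | succ q hq ih =>
      have e : Lef.quotMap (le_of_le J hle (hq.trans (Nat.le_succ q))) =
          Lef.quotMap (hle q) ≫ Lef.quotMap (le_of_le J hle hq) := by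
        haveI := CurvLib.epi_toSubscheme (J (q + 1))
        rw [← cancel_epi (ClSub.toSubscheme (J (q + 1))), LefAlgzLib.toSubscheme_quotMap,
          ← Category.assoc, LefAlgzLib.toSubscheme_quotMap, LefAlgzLib.toSubscheme_quotMap]
      rw [e, CurvLib.hMap_comp, hy q, ih]
  -- each term lifts
  have hlift : ∀ p, ∃ z, CurvLib.hMap (k := k) (Q p) i z = y p := fun p => by
    obtain ⟨q, hpq, a, ha, hz⟩ := hz p
    have h : y p ∈ LinearMap.ker (CurvLib.hDel (k := k) (CurvLib.idealSeq_shortExact (J p)) i) := by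
      let φ : CurvLib.idealSeq (J q) ⟶ CurvLib.idealSeq (J p) :=
        ShortComplex.homMk a (𝟙 _) (Lef.quotMap (le_of_le J hle hpq))
          (ha.trans (Category.comp_id _).symm)
          ((Category.id_comp _).trans (LefAlgzLib.toSubscheme_quotMap (le_of_le J hle hpq)).symm)
      rw [LinearMap.mem_ker, ← htr hpq]
      exact (hDel_natural (CurvLib.idealSeq_shortExact (J q)) (CurvLib.idealSeq_shortExact (J p)) φ i _).trans
        (hz (i + 1) hi _)
    rw [← CurvLib.exact₃] at h
    exact h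
  choose z hzl using hlift
  choose q hpq a ha hz' using hz
  have hdown : ∀ {p r : ℕ} (h : p ≤ r), CurvLib.hMap (k := k) (Q p) i (z r) = y p := fun {p r} h => by
    rw [show (Q p) = ClSub.toSubscheme (J r) ≫ Lef.quotMap (le_of_le J hle h) from
      (LefAlgzLib.toSubscheme_quotMap _).symm, CurvLib.hMap_comp, hzl r, htr h]
  refine ⟨z (q 0), fun m => ?_⟩
  let r := max m (q 0)
  have e : z (q 0) = z r := by
    rw [← sub_eq_zero]
    obtain ⟨w, hw⟩ : z (q 0) - z r ∈ LinearMap.range (CurvLib.hMap (k := k) (ClSub.idealModι (J (q 0))) i) :=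
      (CurvLib.exact₂ (CurvLib.idealSeq_shortExact (J (q 0))) i).ge (by
        show CurvLib.hMap (k := k) (Q (q 0)) i (z (q 0) - z r) = 0
        rw [map_sub, hdown le_rfl, hdown (le_max_right m (q 0)), sub_self])
    rw [← hw, ← ha 0, CurvLib.hMap_comp, hz' 0 i hi.le, map_zero]
  rw [e]
  exact hdown (le_max_left m (q 0))

end EssZeroLib
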