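import Groth.Agent.GrowthLib.CurveTest
import Groth.Agent.AmpleFinGenLib.Divisor
import Groth.Agent.AmpleDevLib.Pull

/-!
# Closed sets missing the zeros of a section of an ample module consist of closed points
-/

set_option autoImplicit false
set_option linter.unusedSectionVars false
universe u

open CategoryTheory CategoryTheory.Limits AlgebraicGeometry TopologicalSpace Opposite
open TwistLib (genSet)
open AmpleLib AmpleThLib

noncomputable section

namespace EssZeroLib

/-- Points outside the zeros of a section are where it generates. -/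
theorem notMem_support_iff {Y : Scheme.{u}} {M : Y.Modules} (hM : PicF.IsInvertible M)
    (s : Coh.structureModule Y ⟶ M) (x : Y) :
    x ∉ (PicF2.zeroScheme M s).support ↔ x ∈ genSet hM (s.app ⊤ (1 : Γ(Y, ⊤))) := by
  obtain ⟨U, e, hxU, he⟩ := TwistLib.exists_genOn hM x
  obtain ⟨W, hW, hxW, hWU⟩ := exists_isAffineOpen_mem_and_subset hxU
  have hg := he.res (hWU : W ≤ U)
  obtain ⟨c, hc⟩ := (hg W le_rfl).2 (MeroLib.secOn s W)
  simp only [res_refl] at hc
  have hI := MeroLib.zeroScheme_ideal_of_genOn hM s (W := ⟨W, hW⟩) hg hc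
  have hc' := hc
  rw [AmpleFinGenLib.secOn_eq_res] at hc'
  have h1 := SetLike.ext_iff.mp (mem_genSet_coeff hM (s.app ⊤ (1 : Γ(Y, ⊤))) hg hc') x
  have h2 := Set.ext_iff.mp (Scheme.IdealSheafData.coe_support_inter (PicF2.zeroScheme M s) ⟨W, hW⟩) x
  simp only [hI, Set.mem_inter_iff, Scheme.zeroLocus_span, Scheme.mem_zeroLocus_iff, Set.mem_singleton_iff,
    forall_eq, SetLike.mem_coe, hxW, and_true] at h2
  simp only [Opens.mem_inf, hxW, and_true] at h1
  rw [h1]
  exact (not_congr h2).trans not_not

variable (k : Type u) [Field k] {X : Scheme.{u}} [X.Over (Spec (CommRingCat.of k))]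
  [IsProper (X ↘ Spec (CommRingCat.of k))]

include k in
theorem finite_of_disjoint_zeros {L : X.Modules} (hL : CohB1.IsAmple L) (s : Coh.structureModule X ⟶ L) {S : Set X}
    (hS : IsClosed S) (hdisj : ∀ x ∈ S, x ∉ (PicF2.zeroScheme L s).support) : S.Finite := by
  by_contra hinf
  obtain ⟨η, hη, hdim⟩ := GrowthLib.exists_curve_point_of_infinite k hS hinf
  refine GrowthLib.not_isAmple_of_curve_subset_genSet (k := k) hL.1 (s.app ⊤ (1 : Γ(X, ⊤))) hdim (fun z hz => ?_)
    (AmpleDevLib.isAmple_pb _ hL.1 hL)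
  exact (notMem_support_iff hL.1 s z).1
    (hdisj z (closure_minimal (Set.singleton_subset_iff.2 hη) hS hz))

include k in
theorem isClosed_singleton_of_disjoint_zeros {L : X.Modules} (hL : CohB1.IsAmple L) (s : Coh.structureModule X ⟶ L)
    {S : Set X} (hS : IsClosed S) (hdisj : ∀ x ∈ S, x ∉ (PicF2.zeroScheme L s).support) {x : X} (hx : x ∈ S) :
    IsClosed ({x} : Set X) := by
  haveI : JacobsonSpace X := LocallyOfFiniteType.jacobsonSpace (X ↘ Spec (CommRingCat.of k))
  have hfin := finite_of_disjoint_zeros k hL s hS hdisj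
  let Z : Set X := closure {x}
  have hsub : Z ⊆ S := closure_minimal (Set.singleton_subset_iff.2 hx) hS
  have hcl : IsClosed ((Z ∩ closedPoints X) : Set X) := by
    rw [← Set.biUnion_of_singleton (Z ∩ closedPoints X)]
    exact ((hfin.subset hsub).subset Set.inter_subset_left).isClosed_biUnion fun z hz => mem_closedPoints_iff.1 hz.2
  have h := closure_inter_closedPoints (X := X) (Z := Z) isClosed_closure
  rw [hcl.closure_eq] at h
  have hxZ : x ∈ Z ∩ closedPoints X := h.ge (subset_closure rfl)
  exact mem_closedPoints_iff.1 hxZ.2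

end EssZeroLib
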