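import Groth.Agent.EssZeroLib.Ideal
import Groth.Agent.ChernOpLib.Dual
import Groth.Agent.AmpleFinGenLib.Divisor
import Groth.Agent.PnDualLib.Embed

/-!
# The transpose of a section and its charts
-/

set_option autoImplicit false
set_option linter.unusedSectionVars false
set_option maxHeartbeats 1000000
set_option backward.isDefEq.respectTransparency false
set_option backward.isDefEq.respectTransparency.types false
universe u

open CategoryTheory CategoryTheory.Limits AlgebraicGeometry TopologicalSpace Opposite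
open ProjFormLib (tF ger ger_res ger_smul ger_map exists_ger)
open CohCmpLib (stk)
open PnDualLib (sm ins ins_ger)
open KFlatLib (shTm)
open AmpleLib (GenOn res)

noncomputable section

namespace EssZeroLib

variable {X : Scheme.{u}}

/-- Charts of a map out of an invertible module. -/
theorem hasCharts_of_invertible {T : X.Modules} (hT : PicF.IsInvertible T) (σ : T ⟶ Coh.structureModule X) :
    HasCharts σ := fun x => by
  obtain ⟨U, g, hxU, hg⟩ := TwistLib.exists_genOn hT x
  obtain ⟨W, hW, hxW, hWU⟩ := exists_isAffineOpen_mem_and_subset (U := U) hxU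
  refine ⟨⟨W, hW⟩, show Γ(X, W) from σ.app W (res T hWU g), hxW, fun y hy => ⟨ger T y hy (res T hWU g),
    (hg.res hWU).genAt hy, ?_⟩⟩
  exact (ger_map σ y hy _).trans (ger_fun_eq y hy _)

/-- A generator is sent to the value of the section. -/
theorem sm_transpose {L M : X.Modules} (e : KFlatLib.tens L M ≅ Coh.structureModule X)
    (s : Coh.structureModule X ⟶ L) {y : X} {V : X.Opens} (hy : y ∈ V) (g : Γ(L, V)) (m : Γ(M, V)) {f : Γ(X, V)}
    (hf : f • g = MeroLib.secOn s V) :
    sm (inv (ExtShLib.uL M) ≫ ((DCoh.tensorBi (X := X)).map s).app M ≫ e.hom) y (ger M y hy m) =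
      X.presheaf.germ V y hy (f * (show Γ(X, V) from e.hom.app V (shTm g m))) • one X y := by
  refine (ger_map _ y hy m).trans ((ger_fun_eq y hy _).trans (congrArg (· • one X y) (congrArg _ ?_)))
  let z : Γ(KFlatLib.tens (Coh.structureModule X) M, V) :=
    shTm (show Γ(Coh.structureModule X, V) from (show Γ(X, V) from 1)) m
  have hz : (ExtShLib.uL M).app V z = m := (ExtShLib.unitLeft_shTm M 1 m).trans (one_smul _ m)
  have h1 : (inv (ExtShLib.uL M)).app V m = z := by
    rw [← hz]
    exact congrArg (fun q : KFlatLib.tens (Coh.structureModule X) M ⟶ _ => q.app V z)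
      (IsIso.hom_inv_id (ExtShLib.uL M))
  show e.hom.app V ((((DCoh.tensorBi (X := X)).map s).app M).app V ((inv (ExtShLib.uL M)).app V m)) = _
  rw [h1, KFlatLib.tensorBi_map₁_shTm]
  show e.hom.app V (shTm (MeroLib.secOn s V) m) = _
  rw [← hf]
  refine (congrArg (e.hom.app V) ?_).trans (QCohLib.app_smul e.hom V f (shTm g m))
  exact ProjFormLib.section_ext _ _ fun z hz => by
    rw [← ins_ger, ger_smul, ger_smul, PnDualLib.ins_smul, ins_ger]

theorem exists_adapted_transpose (L : X.Modules) (hL : PicF.IsInvertible L) (s : Coh.structureModule X ⟶ L) :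
    ∃ (M : X.Modules) (σ : M ⟶ Coh.structureModule X), PicF.IsInvertible M ∧ ClSub.IsInverseOf L M ∧
      Adapted σ (PicF2.zeroScheme L s) := by
  obtain ⟨hM, hiso⟩ := ChernOpLib.exists_du_inv hL
  let M := ChernOpLib.du L
  let e : KFlatLib.tens L M ≅ Coh.structureModule X := @asIso _ _ _ _ (CohCmpLib.evMod L (Coh.structureModule X)) hiso
  refine ⟨M, inv (ExtShLib.uL M) ≫ ((DCoh.tensorBi (X := X)).map s).app M ≫ e.hom, hM, ⟨e⟩, fun x => ?_⟩
  obtain ⟨U, g, hxU, hg⟩ := TwistLib.exists_genOn hL x
  obtain ⟨U', m, hxU', hm⟩ := TwistLib.exists_genOn hM x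
  obtain ⟨W, hW, hxW, hWU⟩ := exists_isAffineOpen_mem_and_subset (U := U ⊓ U') (x := x) ⟨hxU, hxU'⟩
  have h1 : W ≤ U := fun z hz => (hWU hz).1
  have h2 : W ≤ U' := fun z hz => (hWU hz).2
  let g' := res L h1 g
  let m' := res M h2 m
  have hg' : GenOn L g' := hg.res h1
  have hm' : GenOn M m' := hm.res h2
  obtain ⟨f, hf⟩ := (hg' W le_rfl).2 (MeroLib.secOn s W)
  simp only [AmpleLib.res_refl] at hf
  let r : Γ(X, W) := show Γ(X, W) from e.hom.app W (shTm g' m')
  have hr : IsUnit r := X.toLocallyRingedSpace.toRingedSpace.isUnit_of_isUnit_germ W r fun y hy => by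
    have hb : Function.Bijective (fun c : X.presheaf.stalk y => c • X.presheaf.germ W y hy r • one X y) := by
      have e1 : X.presheaf.germ W y hy r • one X y =
          sm e.hom y (ins L M y (ger L y hy g') (ger M y hy m')) := by
        rw [ins_ger]
        exact ((ger_map e.hom y hy _).trans (ger_fun_eq y hy r)).symm
      rw [e1]
      have e2 : (fun c : X.presheaf.stalk y => c • sm e.hom y (ins L M y (ger L y hy g') (ger M y hy m'))) =
          (sm e.hom y ∘ ins L M y (ger L y hy g')) ∘ fun c => c • ger M y hy m' := funext fun c => by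
        simp only [Function.comp_apply, map_smul]
      rw [e2]
      refine (Function.Bijective.comp ?_ (PnDualLib.bijective_ins L M y _ (hg'.genAt hy))).comp (hm'.genAt hy)
      exact (ConcreteCategory.isIso_iff_bijective ((DerSch.stalkFunctor X y).map e.hom)).1 inferInstance
    obtain ⟨c, hc⟩ := hb.2 (one X y)
    refine IsUnit.of_mul_eq_one c ((bijective_one y).1 ?_)
    show (X.presheaf.germ W y hy r * c) • one X y = (1 : X.presheaf.stalk y) • one X y
    rw [mul_comm, mul_smul, one_smul]
    exact hc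
  refine ⟨⟨W, hW⟩, f * r, hxW, ?_, fun y hy => ⟨ger M y hy m', hm'.genAt hy, sm_transpose e s hy g' m' hf⟩⟩
  rw [MeroLib.zeroScheme_ideal_of_genOn hL s (W := ⟨W, hW⟩) hg' hf, Ideal.span_singleton_mul_right_unit hr]

/-- The charts of the powers. -/
theorem adapted_tau {T : X.Modules} {σ : T ⟶ Coh.structureModule X} {J : X.IdealSheafData} (h : Adapted σ J) (D : ℕ) :
    Adapted (tau σ D (Coh.structureModule X)) (J ^ D) := fun x => by
  obtain ⟨V, f, hx, hJ, ht⟩ := h x
  refine ⟨V, f ^ D, hx, ?_, fun y hy => ?_⟩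
  · rw [Scheme.IdealSheafData.ideal_pow, Pi.pow_apply, hJ, Ideal.span_singleton_pow]
  · obtain ⟨t, ht⟩ := ht y hy
    obtain ⟨t', ht'⟩ := exists_genVal_pow ht D
    exact ⟨t', by rw [map_pow]; exact ht'⟩

/-- Transport along an isomorphism. -/
theorem genVal_iso {A B : X.Modules} {σ : A ⟶ Coh.structureModule X} (e : B ≅ A) {y : X} {t : stk A y}
    {a : X.presheaf.stalk y} (h : GenVal σ y t a) : GenVal (e.hom ≫ σ) y (sm e.inv y t) a := by
  have hb : Function.Bijective (sm e.inv y) :=
    (ConcreteCategory.isIso_iff_bijective ((DerSch.stalkFunctor X y).map e.inv)).1 inferInstance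
  refine ⟨?_, ?_⟩
  · have e' : (fun c : X.presheaf.stalk y => c • sm e.inv y t) = sm e.inv y ∘ fun c => c • t :=
      funext fun c => (map_smul _ c t).symm
    rw [e']
    exact hb.comp h.1
  · rw [← sm_comp', Iso.inv_hom_id_assoc]
    exact h.2

theorem adapted_iso {A B : X.Modules} {σ : A ⟶ Coh.structureModule X} {J : X.IdealSheafData} (h : Adapted σ J)
    (e : B ≅ A) : Adapted (e.hom ≫ σ) J := fun x => by
  obtain ⟨V, f, hx, hJ, ht⟩ := h x
  exact ⟨V, f, hx, hJ, fun y hy => by
    obtain ⟨t, ht⟩ := ht y hy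
    exact ⟨_, genVal_iso e ht⟩⟩

theorem nonempty_W_pow (T : X.Modules) : ∀ m : ℕ,
    Nonempty ((W T m).obj (Coh.structureModule X) ≅ CohB1.tensorPow T m)
  | 0 => ⟨Iso.refl _⟩
  | m + 1 => by
    obtain ⟨e⟩ := nonempty_W_pow T m
    exact ⟨HilbPolyLib.congrRight T e ≪≫ HilbPolyLib.swapIso T _⟩

/-- Where the adapted map is invertible the ideal has no zero. -/
theorem notMem_support {T : X.Modules} {σ : T ⟶ Coh.structureModule X} {J : X.IdealSheafData} (h : Adapted σ J) {y : X}
    (hy : Inv σ y) : y ∉ J.support := by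
  obtain ⟨V, f, hxV, hJ, ht⟩ := h y
  obtain ⟨t, ht⟩ := ht y hxV
  have hu := hy _ _ ht
  have hb : y ∈ X.basicOpen f := (X.mem_basicOpen f y hxV).2 hu
  intro hmem
  have h2 := (Set.ext_iff.mp (Scheme.IdealSheafData.coe_support_inter J V) y).1 ⟨hmem, hxV⟩
  rw [hJ] at h2
  simp only [Set.mem_inter_iff, Scheme.zeroLocus_span, Scheme.mem_zeroLocus_iff, Set.mem_singleton_iff, forall_eq,
    SetLike.mem_coe] at h2
  exact h2.1 hb

end EssZeroLib
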