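import Groth.Agent.EssZeroLib.Ideal
import Groth.Agent.EssZeroLib.LimitMod
import Groth.Agent.DefClassLib.Basic
import Groth.Agent.FlatLib.QStalk

/-!
# From essentially zero twists to the kernels of restriction to the thickenings
-/

set_option autoImplicit false
set_option linter.unusedSectionVars false
set_option maxHeartbeats 1000000
set_option backward.isDefEq.respectTransparency false
set_option backward.isDefEq.respectTransparency.types false
universe u

open CategoryTheory CategoryTheory.Limits AlgebraicGeometry TopologicalSpace Opposite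
open ProjFormLib (tF ger ger_res ger_smul ger_map exists_ger)
open CohCmpLib (stk)
open PnDualLib (sm)

noncomputable section

namespace EssZeroLib

variable {X : Scheme.{u}}

/-- The restriction to a closed subscheme. -/
def toSub (K : X.IdealSheafData) (F : X.Modules) :
    F ⟶ (Scheme.Modules.pushforward K.subschemeι).obj ((Scheme.Modules.pullback K.subschemeι).obj F) :=
  (Scheme.Modules.pullbackPushforwardAdjunction K.subschemeι).unit.app F

instance epi_toSub (K : X.IdealSheafData) (F : X.Modules) : Epi (toSub K F) := DefClassLib.epi_unit _ F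

theorem killed_sub (K : X.IdealSheafData) (F : X.Modules) :
    ClSub.KilledByIdeal K
      ((Scheme.Modules.pushforward K.subschemeι).obj ((Scheme.Modules.pullback K.subschemeι).obj F)) := by
  have h := CycKSuppLib.killed_push K.subschemeι ((Scheme.Modules.pullback K.subschemeι).obj F)
  rw [Scheme.IdealSheafData.ker_subschemeι] at h
  exact h

/-- Maps to modules killed by the ideal factor through the restriction. -/
theorem exists_factor (K : X.IdealSheafData) {F Q : X.Modules} (hQ : ClSub.KilledByIdeal K Q) (g : F ⟶ Q) :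
    ∃ g', toSub K F ≫ g' = g := by
  have : ClSub.KilledByIdeal K.subschemeι.ker Q := by rwa [Scheme.IdealSheafData.ker_subschemeι]
  haveI := DevissLib.isIso_unit_of_killed K.subschemeι this
  refine ⟨(Scheme.Modules.pushforward K.subschemeι).map ((Scheme.Modules.pullback K.subschemeι).map g) ≫
    inv ((Scheme.Modules.pullbackPushforwardAdjunction K.subschemeι).unit.app Q), ?_⟩
  rw [← Category.assoc, IsIso.comp_inv_eq]
  exact ((Scheme.Modules.pullbackPushforwardAdjunction K.subschemeι).unit.naturality g).symm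

theorem exists_kernel_incl {K K' : X.IdealSheafData} (h : K ≤ K') (F : X.Modules) :
    ∃ i : kernel (toSub K F) ⟶ kernel (toSub K' F), i ≫ kernel.ι _ = kernel.ι _ := by
  obtain ⟨g, hg⟩ := exists_factor K (fun U a ha m => killed_sub K' F U a (h U ha) m) (toSub K' F)
  exact ⟨kernel.lift _ (kernel.ι _) (by rw [← hg, ← Category.assoc, kernel.condition, zero_comp]),
    kernel.lift_ι _ _ _⟩

theorem smul_stalk_eq_zero (K : X.IdealSheafData) {Q : X.Modules} (hQ : ClSub.KilledByIdeal K Q) (V : X.affineOpens)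
    (g : Γ(X, V.1)) (hg : g ∈ K.ideal V) (y : X) (hy : y ∈ V.1) (v : stk Q y) :
    X.presheaf.germ V.1 y hy g • v = 0 := by
  obtain ⟨O, hyO, s, rfl⟩ := exists_ger Q y v
  obtain ⟨b, hble, hyb⟩ := V.2.exists_basicOpen_le (V := O) ⟨y, hyO⟩ hy
  let D : X.affineOpens := ⟨X.basicOpen b, V.2.basicOpen b⟩
  have hr : (X.presheaf.map (homOfLE (X.basicOpen_le b)).op).hom g ∈ K.ideal D :=
    (K.map_ideal_basicOpen V b).le (Ideal.mem_map_of_mem _ hg)
  rw [← ger_res Q hble y hyb s, ← TopCat.Presheaf.germ_res_apply X.presheaf (homOfLE (X.basicOpen_le b)) y hyb g,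
    ← ger_smul]
  refine (congrArg (ger Q y hyb) (hQ D _ hr _)).trans ?_
  exact map_zero (Q.presheaf.germ D.1 y hyb).hom

theorem exists_ann_bound_mod [IsLocallyNoetherian X] (F : X.Modules) [Coh.IsQCoh F] (hFT : CohB1.IsFT F)
    (V : X.affineOpens) (f : Γ(X, V.1)) :
    ∃ c : ℕ, ∀ (y : X) (hy : y ∈ V.1) (p : ℕ) (v : stk F y),
      X.presheaf.germ V.1 y hy f ^ p • v = 0 → X.presheaf.germ V.1 y hy f ^ c • v = 0 := by
  haveI := QCohLib.finite_of_isFT hFT V.2
  haveI : IsNoetherianRing Γ(X, V.1) := IsLocallyNoetherian.component_noetherian V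
  let A : ℕ →o Submodule Γ(X, V.1) Γ(F, V.1) :=
    ⟨fun c => LinearMap.ker (LinearMap.lsmul Γ(X, V.1) Γ(F, V.1) (f ^ c)), fun a b hab v hv => by
      simp only [LinearMap.mem_ker, LinearMap.lsmul_apply] at hv ⊢
      rw [← Nat.sub_add_cancel hab, pow_add, mul_smul, hv, smul_zero]⟩
  obtain ⟨c, hc⟩ := monotone_stabilizes_iff_noetherian.2 (inferInstance : IsNoetherian Γ(X, V.1) Γ(F, V.1)) A
  refine ⟨c, fun y hy p v hv => ?_⟩
  letI := Module.compHom (F.presheaf.stalk y) (X.presheaf.germ V.1 y hy).hom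
  haveI hloc := FlatLib.isLocalizedModule_germLin F V.2 hy
  obtain ⟨⟨m, s⟩, hms⟩ := IsLocalizedModule.surj (V.2.primeIdealOf ⟨y, hy⟩).asIdeal.primeCompl (FlatLib.germLin F hy) v
  have hs : IsUnit (X.presheaf.germ V.1 y hy s.1) := by
    letI : Algebra Γ(X, V.1) (X.presheaf.stalk y) := (X.presheaf.germ V.1 y hy).hom.toAlgebra
    haveI : IsLocalization.AtPrime (X.presheaf.stalk y) (V.2.primeIdealOf ⟨y, hy⟩).asIdeal :=
      V.2.isLocalization_stalk ⟨y, hy⟩
    exact IsLocalization.map_units (X.presheaf.stalk y) s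
  have hms' : X.presheaf.germ V.1 y hy s.1 • v = ger F y hy m := hms
  have h0 : FlatLib.germLin F hy (f ^ p • m) = FlatLib.germLin F hy 0 := by
    show ger F y hy (f ^ p • m) = ger F y hy 0
    rw [ger_smul, map_pow, ← hms', smul_comm, hv, smul_zero]
    exact (map_zero (F.presheaf.germ V.1 y hy).hom).symm
  obtain ⟨u, hu⟩ := IsLocalizedModule.exists_of_eq (S := (V.2.primeIdealOf ⟨y, hy⟩).asIdeal.primeCompl) h0
  rw [smul_zero] at hu
  have hmem : u.1 • m ∈ A (max c p) := by
    refine A.monotone (le_max_right c p) ?_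
    show f ^ p • u.1 • m = 0
    rw [smul_comm]; exact hu
  rw [← hc _ (le_max_left c p)] at hmem
  have hu' : IsUnit (X.presheaf.germ V.1 y hy u.1) := by
    letI : Algebra Γ(X, V.1) (X.presheaf.stalk y) := (X.presheaf.germ V.1 y hy).hom.toAlgebra
    haveI : IsLocalization.AtPrime (X.presheaf.stalk y) (V.2.primeIdealOf ⟨y, hy⟩).asIdeal :=
      V.2.isLocalization_stalk ⟨y, hy⟩
    exact IsLocalization.map_units (X.presheaf.stalk y) u
  have e : X.presheaf.germ V.1 y hy u.1 • X.presheaf.germ V.1 y hy s.1 • X.presheaf.germ V.1 y hy f ^ c • v = 0 := by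
    rw [smul_comm (X.presheaf.germ V.1 y hy s.1), hms', ← map_pow, smul_comm, ← ger_smul, ← ger_smul,
      show f ^ c • u.1 • m = 0 from hmem]
    exact map_zero (F.presheaf.germ V.1 y hy).hom
  exact hs.smul_eq_zero.1 (hu'.smul_eq_zero.1 e)

variable {T : X.Modules} {σ : T ⟶ Coh.structureModule X}

theorem exists_ann_bound_coh [IsLocallyNoetherian X] [CompactSpace X] (h : HasCharts σ) (F : X.Modules)
    [Coh.IsQCoh F] (hFT : CohB1.IsFT F) :
    ∃ c : ℕ, ∀ (y : X) (p : ℕ) (t : stk T y) (a : X.presheaf.stalk y), GenVal σ y t a →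
      ∀ v : stk F y, a ^ p • v = 0 → a ^ c • v = 0 := by
  classical
  choose V f hx hV using h
  choose c hc using fun x => exists_ann_bound_mod F hFT (V x) (f x)
  obtain ⟨S, hS⟩ := isCompact_univ.elim_finite_subcover (fun x => ((V x).1 : Set X)) (fun x => (V x).1.2)
    fun x _ => Set.mem_iUnion.2 ⟨x, hx x⟩
  refine ⟨S.sum c, fun y p t a ha v hv => ?_⟩
  obtain ⟨x, hxS, hy⟩ := Set.mem_iUnion₂.1 (hS (Set.mem_univ y))
  obtain ⟨t', ht'⟩ := hV x y hy
  obtain ⟨d, hd⟩ := ha.1.2 t'
  obtain ⟨d', hd'⟩ := ht'.1.2 t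
  have hdd : d' * d = 1 := ha.1.1 (by
    show (d' * d) • t = (1 : X.presheaf.stalk y) • t
    rw [mul_smul, one_smul, show d • t = t' from hd]; exact hd')
  have hu : IsUnit d := IsUnit.of_mul_eq_one d' (by rw [mul_comm]; exact hdd)
  have e : X.presheaf.germ (V x).1 y hy (f x) = d * a := (bijective_one y).1 (by
    show _ • one X y = (d * a) • one X y
    rw [← ht'.2, mul_smul, ← ha.2, ← map_smul]
    exact congrArg (sm σ y) hd.symm)
  have h1 := hc x y hy p v (by rw [e, mul_pow, mul_smul, hv, smul_zero])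
  rw [e, mul_pow, mul_smul, (hu.pow _).smul_eq_zero] at h1
  rw [← Nat.sub_add_cancel (Finset.single_le_sum (fun j _ => Nat.zero_le (c j)) hxS), pow_add, mul_smul, h1, smul_zero]

variable {J : X.IdealSheafData}

theorem tau_toSub (hA : Adapted σ J) (p : ℕ) (F : X.Modules) : tau σ p F ≫ toSub (J ^ p) F = 0 :=
  eq_zero_of_stalks _ fun y v => by
    obtain ⟨V, f, hy, hJ, ht⟩ := hA y
    obtain ⟨t, ht⟩ := ht y hy
    obtain ⟨q, hq, hv⟩ := exists_model ht F p
    obtain ⟨v, rfl⟩ := hq.2 v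
    rw [sm_comp', hv, map_smul, ← map_pow]
    refine smul_stalk_eq_zero (J ^ p) (killed_sub _ F) V (f ^ p) ?_ y hy _
    rw [Scheme.IdealSheafData.ideal_pow, Pi.pow_apply, hJ, Ideal.span_singleton_pow]
    exact Ideal.mem_span_singleton_self _

theorem killed_cokernel_tau (hA : Adapted σ J) (p : ℕ) (F : X.Modules) :
    ClSub.KilledByIdeal (J ^ p) (cokernel (tau σ p F)) := fun U r hr m => by
  refine ProjFormLib.section_ext _ _ fun y hy => ?_
  obtain ⟨V, f, hyV, hJ, ht⟩ := hA y
  obtain ⟨t, ht⟩ := ht y hyV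
  obtain ⟨q, -, hv⟩ := exists_model ht F p
  obtain ⟨s, hs⟩ := IntMultLib.exists_section (J ^ p) U hr
  have hpow : (J ^ p).ideal V = Ideal.span {f ^ p} := by
    rw [Scheme.IdealSheafData.ideal_pow, Pi.pow_apply, hJ, Ideal.span_singleton_pow]
  obtain ⟨b, hb⟩ := (exists_stalk_gen (J ^ p) V _ hpow y hyV).2 (ger (ClSub.idealMod (J ^ p)) y hy s)
  have hr' : X.presheaf.germ U.1 y hy r = X.presheaf.germ V.1 y hyV f ^ p * b := (bijective_one y).1 (by
    show X.presheaf.germ U.1 y hy r • one X y = _ • one X y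
    rw [← map_pow, ← hb]
    exact (((ger_map _ y hy s).trans (congrArg (ger _ y hy) hs)).trans (ger_fun_eq y hy r)).symm)
  have hsur : Function.Surjective (sm (cokernel.π (tau σ p F)) y) := (ModuleCat.epi_iff_surjective _).1
    (inferInstanceAs (Epi ((DerSch.stalkFunctor X y).map (cokernel.π (tau σ p F)))))
  obtain ⟨w, hw⟩ := hsur (ger _ y hy m)
  refine (ger_smul _ y hy r m).trans ((congrArg (X.presheaf.germ U.1 y hy r • ·) hw.symm).trans ?_)
  rw [hr', mul_smul, ← map_smul, ← map_smul, ← hv, ← sm_comp', cokernel.condition, PnDualLib.sm_zero,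
    LinearMap.zero_apply]
  exact (map_zero ((cokernel (tau σ p F)).presheaf.germ U.1 y hy).hom).symm

/-- The iterated multiplication is onto the kernel of the restriction. -/
theorem exists_toKernel (hA : Adapted σ J) (p : ℕ) (F : X.Modules) :
    ∃ ψ : (W T p).obj F ⟶ kernel (toSub (J ^ p) F), ψ ≫ kernel.ι _ = tau σ p F ∧ Epi ψ := by
  let τ := tau σ p F
  obtain ⟨g, hg⟩ := exists_factor (J ^ p) (killed_cokernel_tau hA p F) (cokernel.π τ)
  let i₁ : kernel (toSub (J ^ p) F) ⟶ Abelian.image τ :=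
    kernel.lift _ (kernel.ι _) (by rw [← hg, ← Category.assoc, kernel.condition, zero_comp])
  let i₂ : Abelian.image τ ⟶ kernel (toSub (J ^ p) F) := kernel.lift _ (Abelian.image.ι τ) (by
    rw [← cancel_epi (Abelian.factorThruImage τ), ← Category.assoc, Abelian.image.fac, comp_zero]
    exact tau_toSub hA p F)
  haveI : IsIso i₂ := ⟨i₁, by rw [← cancel_mono (Abelian.image.ι τ)]; simp [i₁, i₂],
    by rw [← cancel_mono (kernel.ι (toSub (J ^ p) F))]; simp [i₁, i₂]⟩
  refine ⟨Abelian.factorThruImage τ ≫ i₂, ?_, epi_comp _ _⟩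
  rw [Category.assoc, kernel.lift_ι, Abelian.image.fac]

/-- Beyond the torsion, the kernels map back to the twists. -/
theorem exists_fromKernel [IsLocallyNoetherian X] [CompactSpace X] (hA : Adapted σ J) (F : X.Modules)
    [Coh.IsQCoh F] (hFT : CohB1.IsFT F) :
    ∃ c : ℕ, ∀ p : ℕ, ∃ φ : kernel (toSub (J ^ (c + p)) F) ⟶ (W T p).obj F,
      φ ≫ tau σ p F = kernel.ι _ := by
  obtain ⟨c, hc⟩ := exists_ann_bound_coh hA.hasCharts F hFT
  refine ⟨c, fun p => ?_⟩
  obtain ⟨ψ, hψ, hψe⟩ := exists_toKernel hA (c + p) F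
  let u : (W T (c + p)).obj F ⟶ (W T p).obj F := eqToHom (W_add p c F).symm ≫ tau σ c _
  have hu : u ≫ tau σ p F = tau σ (c + p) F := by
    rw [Category.assoc, tau_add σ p c F, eqToHom_trans_assoc, eqToHom_refl, Category.id_comp]
  have hk : kernel.ι ψ ≫ u = 0 := eq_zero_of_stalks _ fun y w => by
    obtain ⟨V, f, hy, hJ, ht⟩ := hA y
    obtain ⟨t, ht⟩ := ht y hy
    set a := X.presheaf.germ V.1 y hy f
    obtain ⟨q, hq, hv⟩ := exists_model ht F (c + p)
    obtain ⟨qp, hqp, hvp⟩ := exists_model ht F p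
    obtain ⟨z, hz⟩ := hq.2 (sm (kernel.ι ψ) y w)
    have h0 : a ^ (c + p) • z = 0 := by
      rw [← hv, hz, ← sm_comp', ← hψ, ← Category.assoc, kernel.condition, zero_comp, PnDualLib.sm_zero,
        LinearMap.zero_apply]
    have h1 : a ^ c • z = 0 := hc y (c + p) t a ht z h0
    obtain ⟨qq, hqq, hvq⟩ := exists_model ht ((W T p).obj F) c
    obtain ⟨d, hd⟩ := hqq.2 (sm (eqToHom (W_add p c F).symm) y (q z))
    obtain ⟨d', rfl⟩ := hqp.2 d
    rw [sm_comp', ← hz, sm_comp', ← hd, hvq, ← map_smul]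
    suffices a ^ c • d' = 0 by rw [this, map_zero]
    refine hc y (2 * c + p) t a ht d' ?_
    have e : a ^ c • a ^ p • d' = a ^ (c + p) • z := by
      rw [← hv, ← hvp, ← map_smul, ← hvq, hd, ← sm_comp', ← sm_comp', ← Category.assoc]
      exact congrArg (fun g => sm g y (q z)) hu
    rw [show 2 * c + p = c + (c + p) by omega, pow_add, mul_smul, pow_add, mul_smul, e, h0,
      smul_zero]
  refine ⟨(Abelian.epiIsCokernelOfKernel _ (kernelIsKernel ψ)).desc (CokernelCofork.ofπ u hk), ?_⟩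
  rw [← cancel_epi ψ, ← Category.assoc]
  refine (congrArg (· ≫ tau σ p F)
    ((Abelian.epiIsCokernelOfKernel _ (kernelIsKernel ψ)).fac (CokernelCofork.ofπ u hk) WalkingParallelPair.one)).trans ?_
  exact hu.trans hψ.symm

variable {k : Type u} [Field k] [X.Over (Spec (CommRingCat.of k))]

theorem ZeroStepMod.mono {n : ℕ} {F : X.Modules} {I₀ J₀ I' J' : X.IdealSheafData}
    (h : ZeroStepMod k n (toSub I₀ F) (toSub J₀ F)) (hI : I' ≤ I₀) (hJ : J₀ ≤ J') :
    ZeroStepMod k n (toSub I' F) (toSub J' F) := by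
  obtain ⟨i, hi, hz⟩ := h
  obtain ⟨a, ha⟩ := exists_kernel_incl hI F
  obtain ⟨b, hb⟩ := exists_kernel_incl hJ F
  refine ⟨a ≫ i ≫ b, by rw [Category.assoc, Category.assoc, hb, hi, ha], fun j hj x => ?_⟩
  rw [CurvLib.hMap_comp, CurvLib.hMap_comp, hz j hj, map_zero]

theorem exists_zeroStepMod [IsLocallyNoetherian X] [CompactSpace X] (hA : Adapted σ J) {n : ℕ} (F : X.Modules)
    [Coh.IsQCoh F] (hFT : CohB1.IsFT F) (hz : TauZero σ k (n + 1) F) (p : ℕ) :
    ∃ q : ℕ, p ≤ q ∧ ZeroStepMod k n (toSub (J ^ q) F) (toSub (J ^ p) F) := by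
  obtain ⟨e, m₀, he⟩ := hz
  obtain ⟨c, hc⟩ := exists_fromKernel hA F hFT
  let m := max m₀ p
  obtain ⟨φ, hφ⟩ := hc (m + e)
  obtain ⟨ψ, hψ, -⟩ := exists_toKernel hA m F
  refine ⟨c + (m + e), by omega, ?_⟩
  refine ZeroStepMod.mono (I₀ := J ^ (c + (m + e))) (J₀ := J ^ m)
    ⟨φ ≫ eqToHom (W_add e m F).symm ≫ (W T m).map (tau σ e F) ≫ ψ, ?_, fun j hj x => ?_⟩ le_rfl ?_
  · rw [Category.assoc, Category.assoc, Category.assoc, hψ, map_tau_comp, eqToHom_trans_assoc, eqToHom_refl,
      Category.id_comp, hφ]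
  · rw [CurvLib.hMap_comp, CurvLib.hMap_comp, CurvLib.hMap_comp, he m (le_max_left _ _) j (Nat.lt_succ_of_le hj),
      map_zero]
  · exact antitone_nat_of_succ_le (f := fun i => J ^ i)
      (fun i => by rw [pow_succ]; exact mul_le_of_le_one_right' le_top) (le_max_right m₀ p)

end EssZeroLib
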