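import Groth.Agent.EssZeroLib.Push
import Groth.Agent.GrTildeLib.TensLift

/-!
# The iterated twists are tensor products with the iterated twist of `O`
-/

set_option autoImplicit false
set_option linter.unusedSectionVars false
set_option maxHeartbeats 1000000
set_option backward.isDefEq.respectTransparency false
set_option backward.isDefEq.respectTransparency.types false
universe u

open CategoryTheory CategoryTheory.Limits AlgebraicGeometry TopologicalSpace Opposite
open ProjFormLib (tF ger ger_res ger_smul ger_map exists_ger)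
open CohCmpLib (stk homMod happ ger_happ)
open PnDualLib (sm ins ins_ger)
open KFlatLib (shTm tens)

noncomputable section

namespace EssZeroLib

variable {P : Scheme.{u}}

theorem ins_add_left (L N : P.Modules) (y : P) (a a' : stk L y) (n : stk N y) :
    ins L N y (a + a') n = ins L N y a n + ins L N y a' n :=
  (congrArg (KFlatLib.stalkTensorLin L N y) (TensorProduct.add_tmul a a' n)).trans (map_add _ _ _)

variable (T A G : P.Modules)

/-- `t ↦ (t ⊗ p) ⊗ g` on stalks. -/
def mid (y : P) (p : stk A y) (g : stk G y) : stk T y →ₗ[P.presheaf.stalk y] stk (tens (tens T A) G) y where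
  toFun t := ins (tens T A) G y (ins T A y t p) g
  map_add' t t' := by rw [ins_add_left, ins_add_left]
  map_smul' c t := by rw [PnDualLib.ins_smul, PnDualLib.ins_smul]; rfl

theorem mid_ger {V : P.Opens} (y : P) (hy : y ∈ V) (t : Γ(T, V)) (p : Γ(A, V)) (g : Γ(G, V)) :
    mid T A G y (ger A y hy p) (ger G y hy g) (ger T y hy t) = ger _ y hy (shTm (shTm t p) g) :=
  (congrArg (fun z => ins (tens T A) G y z (ger G y hy g)) (ins_ger T A y hy t p)).trans (ins_ger _ G y hy _ g)

/-- The section of the sheaf of homomorphisms given by two sections. -/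
def midSec (U : P.Opens) (p : Γ(A, U)) (g : Γ(G, U)) : Γ(homMod T (tens (tens T A) G), U) :=
  (⟨fun y => mid T A G y.1 (ger A y.1 y.2 p) (ger G y.1 y.2 g), fun V h t =>
    ⟨shTm (shTm t (ProjFormLib.res A h p)) (ProjFormLib.res G h g), fun y hy => by
      rw [← mid_ger, ger_res, ger_res]⟩⟩ : CohCmpLib.homSec T (tens (tens T A) G) U)

theorem hVal_midSec (U : P.Opens) (p : Γ(A, U)) (g : Γ(G, U)) (y : P) (hy : y ∈ U) :
    CohCmpLib.hVal (midSec T A G U p g) y hy = mid T A G y (ger A y hy p) (ger G y hy g) := rfl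

theorem exists_assoc : ∃ α : tens T (tens A G) ⟶ tens (tens T A) G,
    ∀ (y : P) (t : stk T y) (p : stk A y) (g : stk G y),
      sm α y (ins T (tens A G) y t (ins A G y p g)) = ins (tens T A) G y (ins T A y t p) g := by
  obtain ⟨μ, hμ⟩ := GrTildeLib.exists_tens_hom (M := A) (N := G) (P := homMod T (tens (tens T A) G))
    (fun U p g => midSec T A G U p g)
    (fun U p p' g => CohCmpLib.homMod_ext fun y hy => LinearMap.ext fun t => by
      rw [CohCmpLib.hVal_add, LinearMap.add_apply, hVal_midSec, hVal_midSec, hVal_midSec, ProjFormLib.ger_add]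
      show ins _ G y (ins T A y t (_ + _)) _ = _
      rw [map_add, ins_add_left]
      rfl)
    (fun U p g g' => CohCmpLib.homMod_ext fun y hy => LinearMap.ext fun t => by
      rw [CohCmpLib.hVal_add, LinearMap.add_apply, hVal_midSec, hVal_midSec, hVal_midSec, ProjFormLib.ger_add]
      show ins _ G y (ins T A y t _) (_ + _) = _
      rw [map_add]
      rfl)
    (fun U r p g => CohCmpLib.homMod_ext fun y hy => LinearMap.ext fun t => by
      rw [CohCmpLib.hVal_smul, LinearMap.smul_apply, hVal_midSec, hVal_midSec, ger_smul]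
      show ins _ G y (ins T A y t (_ • _)) _ = _
      rw [map_smul, PnDualLib.ins_smul]
      rfl)
    (fun U r p g => CohCmpLib.homMod_ext fun y hy => LinearMap.ext fun t => by
      rw [CohCmpLib.hVal_smul, LinearMap.smul_apply, hVal_midSec, hVal_midSec, ger_smul]
      show ins _ G y (ins T A y t _) (_ • _) = _
      rw [map_smul]
      rfl)
    (fun V W h p g => CohCmpLib.homMod_ext fun y hy => by
      show mid T A G y (ger A y (h hy) p) (ger G y (h hy) g) =
        mid T A G y (ger A y hy (ProjFormLib.res A h p)) (ger G y hy (ProjFormLib.res G h g))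
      rw [ger_res, ger_res])
  obtain ⟨ev, hev⟩ := CohCmpLib.exists_evMod T (tens (tens T A) G)
  refine ⟨(tF T).map μ ≫ ev, fun y t p g => ?_⟩
  obtain ⟨U, hU, t, rfl⟩ := exists_ger T y t
  obtain ⟨V, hV, p, rfl⟩ := exists_ger A y p
  obtain ⟨O, hO, g, rfl⟩ := exists_ger G y g
  have hy : y ∈ U ⊓ (V ⊓ O) := ⟨hU, hV, hO⟩
  rw [← ger_res T (inf_le_left : U ⊓ (V ⊓ O) ≤ U) y hy t,
    ← ger_res A (inf_le_right.trans inf_le_left : U ⊓ (V ⊓ O) ≤ V) y hy p,
    ← ger_res G (inf_le_right.trans inf_le_right : U ⊓ (V ⊓ O) ≤ O) y hy g]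
  refine (congrArg (fun z => sm ((tF T).map μ ≫ ev) y (ins T _ y _ z)) (ins_ger A G y hy _ _)).trans ?_
  refine (congrArg (sm ((tF T).map μ ≫ ev) y) (ins_ger T _ y hy _ _)).trans ((ger_map _ y hy _).trans ?_)
  refine (congrArg (fun z => ger _ y hy (ev.app _ z)) (KFlatLib.tensorBi_map₂_shTm T μ _ _)).trans ?_
  refine (congrArg (ger _ y hy) (hev _ _ _)).trans ?_
  rw [ger_happ]
  refine (congrArg (fun h => CohCmpLib.hVal h y hy (ger T y hy _)) (hμ _ _ _)).trans ?_
  exact rfl

variable {T} {σ : T ⟶ Coh.structureModule P}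

/-- The iterated multiplication factors through the tensor product with the iterated twist of `O`. -/
theorem exists_split (hg : ∀ y : P, ∃ (t : stk T y) (a : P.presheaf.stalk y), GenVal σ y t a) :
    ∀ e : ℕ, ∃ v : (W T e).obj G ⟶ (tF ((W T e).obj (Coh.structureModule P))).obj G,
      v ≫ mulApp (tau σ e (Coh.structureModule P)) G = tau σ e G
  | 0 => ⟨@inv _ _ _ _ (ExtShLib.uL G) (ExtShLib.isIso_uL G), by
      show inv (ExtShLib.uL G) ≫ ((DCoh.tensorBi (X := P)).map (𝟙 (Coh.structureModule P))).app G ≫ ExtShLib.uL G = 𝟙 G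
      rw [CategoryTheory.Functor.map_id, NatTrans.id_app]
      exact (congrArg (inv (ExtShLib.uL G) ≫ ·) (Category.id_comp _)).trans (IsIso.inv_hom_id _)⟩
  | e + 1 => by
    obtain ⟨v, hv⟩ := exists_split hg e
    let O := Coh.structureModule P
    let Pe := (W T e).obj O
    obtain ⟨α, hα⟩ := exists_assoc T Pe G
    refine ⟨(tF T).map v ≫ α, ?_⟩
    have key : α ≫ mulApp (mulApp σ Pe ≫ tau σ e O) G =
        mulApp σ (tens Pe G) ≫ mulApp (tau σ e O) G := by
      rw [← sub_eq_zero]
      refine eq_zero_of_stalks _ fun y w => ?_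
      obtain ⟨t, a, ht⟩ := hg y
      obtain ⟨t', ht'⟩ := exists_genVal_pow ht e
      obtain ⟨w, rfl⟩ := (PnDualLib.bijective_ins T (tens Pe G) y t ht.1).2 w
      obtain ⟨g, rfl⟩ := (PnDualLib.bijective_ins Pe G y t' ht'.1).2 w
      have h1 : sm (mulApp σ Pe ≫ tau σ e O) y (ins T Pe y t t') = (a * a ^ e) • one P y := by
        rw [sm_comp', sm_mulApp_ins ht.2, map_smul, ht'.2, smul_smul]
      rw [show sm (α ≫ mulApp (mulApp σ Pe ≫ tau σ e O) G - mulApp σ (tens Pe G) ≫ mulApp (tau σ e O) G) y _ =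
          sm (α ≫ mulApp (mulApp σ Pe ≫ tau σ e O) G) y (ins T (tens Pe G) y t (ins Pe G y t' g)) -
            sm (mulApp σ (tens Pe G) ≫ mulApp (tau σ e O) G) y (ins T (tens Pe G) y t (ins Pe G y t' g)) from
        congrArg (fun φ => (ModuleCat.Hom.hom φ) _) ((DerSch.stalkFunctor P y).map_sub (f := α ≫ mulApp (mulApp σ Pe ≫ tau σ e O) G) (g := mulApp σ (tens Pe G) ≫ mulApp (tau σ e O) G)), sub_eq_zero]
      refine (sm_comp' _ _ y _).trans ((congrArg _ (hα y t t' g)).trans ?_)
      refine (sm_mulApp_ins h1 G g).trans ?_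
      rw [sm_comp', sm_mulApp_ins ht.2, map_smul, sm_mulApp_ins ht'.2, smul_smul]
    show ((tF T).map v ≫ α) ≫ mulApp (mulApp σ Pe ≫ tau σ e O) G = mulApp σ _ ≫ tau σ e G
    rw [Category.assoc, key, ← hv]
    exact (Category.assoc _ _ _).symm.trans ((congrArg (· ≫ _) (mulApp_naturality σ v)).trans (Category.assoc _ _ _))

variable {k : Type u} [Field k] [P.Over (Spec (CommRingCat.of k))]

/-- The two forms of essential vanishing agree. -/
theorem tauZero_of_essZero' (hg : ∀ y : P, ∃ (t : stk T y) (a : P.presheaf.stalk y), GenVal σ y t a) {c : ℕ}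
    (h : EssZero σ k c G) : TauZero σ k c G := by
  obtain ⟨e, m₀, h⟩ := h
  obtain ⟨v, hv⟩ := exists_split G hg e
  refine ⟨e, m₀, fun m hm j hj x => ?_⟩
  rw [← hv, Functor.map_comp, CurvLib.hMap_comp, h m hm j hj]

end EssZeroLib
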