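import Groth.Agent.EssZeroLib.Main
import Groth.Agent.EssZeroLib.CohIdeal
import Groth.Agent.EssZeroLib.Split

/-!
# The kernels of restriction to the thickenings of the zeros of a section form an essentially zero system
-/

set_option autoImplicit false
set_option linter.unusedSectionVars false
set_option maxHeartbeats 1000000
set_option backward.isDefEq.respectTransparency false
set_option backward.isDefEq.respectTransparency.types false
universe u

open CategoryTheory CategoryTheory.Limits AlgebraicGeometry TopologicalSpace Opposite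
open ProjFormLib (tF ger ger_res ger_smul ger_map exists_ger)
open CohCmpLib (stk)
open PnDualLib (sm)
open KFlatLib (puSec pb pf)

noncomputable section

namespace EssZeroLib

variable (k : Type u) [Field k] {X : Scheme.{u}} [X.Over (Spec (CommRingCat.of k))]
  [IsProper (X ↘ Spec (CommRingCat.of k))]

theorem exists_zeroStep_section_coh {L : X.Modules} (hL : CohB1.IsAmple L) (s : Coh.structureModule X ⟶ L)
    (F : X.Modules) (hF : Coh.IsCoh F) (n : ℕ)
    (hd : ∀ p : X, p ∉ ((PicF2.zeroScheme L s).support : Set X) → (n : WithBot ℕ∞) <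
      (LocCoh.depth (X.presheaf.stalk p) (F.presheaf.stalk p) : WithBot ℕ∞) +
        topologicalKrullDim ↥(closure ({p} : Set X))) (p : ℕ) :
    ∃ r : ℕ, p ≤ r ∧ ZeroStepMod k n (toSub ((PicF2.zeroScheme L s) ^ (r + 1)) F)
      (toSub ((PicF2.zeroScheme L s) ^ (p + 1)) F) := by
  haveI := CurvLib.isNoetherian k (X := X)
  haveI := hF.1
  let I := PicF2.zeroScheme L s
  obtain ⟨M, σ₁, hM, hLM, hA⟩ := exists_adapted_transpose L hL.1 s
  obtain ⟨N, d, i, hd0, hi, -, ⟨e₁⟩⟩ := PnDualLib.exists_closedImm_pow k hL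
  haveI := hi
  obtain ⟨q₀, hlift⟩ := exists_lift_section i
  let q := q₀ + 1
  let D := d * q
  obtain ⟨eM⟩ := PnDualLib.nonempty_inv_pow i hLM e₁ q
  obtain ⟨eW⟩ := nonempty_W_pow M D
  let ε : pb i (Twist.twistProjSpace N k (-(q : ℤ))) ≅ (W M D).obj (Coh.structureModule X) := eM.symm ≪≫ eW.symm
  let σ' := ε.hom ≫ tau σ₁ D (Coh.structureModule X)
  have hA' : Adapted σ' (I ^ D) := adapted_iso (adapted_tau hA D) ε
  obtain ⟨σ, hσ⟩ := hlift q (Nat.le_succ q₀) σ'
  have hDpos : D ≠ 0 := Nat.mul_ne_zero hd0.ne' (Nat.succ_ne_zero q₀)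
  have hess : EssZero σ k (n + 1) ((Coh.push i).obj F) := by
    refine essZero_push k i (Nat.le_add_left 1 q₀) n _ hF fun z hz => ?_
    refine hd z fun hmem => notMem_support hA' (inv_of_inv_push i hσ hz) ?_
    rw [Scheme.IdealSheafData.support_pow (hn := hDpos)]
    exact hmem
  have hT := AmpleDevLib.isFinLocFree_of_isInvertible (PicPnLib.twist_inv N k (-(q : ℤ)))
  have htau : TauZero σ' k (n + 1) F :=
    tauZero_of_push i hT hσ (tauZero_of_essZero' _
      (exists_genVals (hasCharts_of_invertible (PicPnLib.twist_inv N k _) σ)) hess)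
  obtain ⟨r, hr, hz⟩ := exists_zeroStepMod hA' F hF.2 htau (p + 1)
  rw [← pow_mul, ← pow_mul] at hz
  have h1 : p + 1 ≤ D * (p + 1) := Nat.le_mul_of_pos_left _ (Nat.pos_of_ne_zero hDpos)
  have h2 : p + 1 ≤ D * r := hr.trans (Nat.le_mul_of_pos_left _ (Nat.pos_of_ne_zero hDpos))
  refine ⟨D * r - 1, by omega, ?_⟩
  rw [show D * r - 1 + 1 = D * r by omega]
  exact hz.mono le_rfl (antitone_nat_of_succ_le (f := fun j => I ^ j)
    (fun j => by rw [pow_succ]; exact mul_le_of_le_one_right' le_top) h1)

end EssZeroLib
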