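import Groth.Agent.EssZeroLib.Sections

/-!
# Formal sections in terms of the completion

The kernel is slow to identify the functors in the transition maps unless the terms agree syntactically, hence the
named intermediate maps.
-/

set_option autoImplicit false
set_option linter.unusedSectionVars false
set_option linter.unusedVariables false
set_option maxHeartbeats 4000000
set_option backward.isDefEq.respectTransparency.types false
universe u

open CategoryTheory CategoryTheory.Limits AlgebraicGeometry

noncomputable section

namespace EssZeroLib

variable (k : Type u) [Field k] (X : Scheme.{u}) [X.Over (Spec (CommRingCat.of k))]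

theorem completion_w (I : X.IdealSheafData) (n : ℕ) : (FSch.completionAlong X I).ι n ≫ FSch.completionToX X I (n+1) = FSch.completionToX X I n :=
    Scheme.IdealSheafData.inclusion_subschemeι (FSch.pow_succ_le X I n)

def unitC (F : X.Modules) (I : X.IdealSheafData) (n : ℕ) :
    F ⟶ (Scheme.Modules.pushforward (FSch.completionToX X I n)).obj ((FSch.completionMod I F).F n) :=
  (Scheme.Modules.pullbackPushforwardAdjunction (FSch.completionToX X I n)).unit.app F
theorem heq_unitC (F : X.Modules) (I : X.IdealSheafData) :
    HEq (unitC X F I) (fun n => (Scheme.Modules.pullbackPushforwardAdjunction (FSch.completionToX X I n)).unit.app F) := HEq.rfl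
def congrC (I : X.IdealSheafData) (n : ℕ) : Scheme.Modules.pushforward ((FSch.completionAlong X I).ι n ≫ FSch.completionToX X I (n + 1)) ≅ Scheme.Modules.pushforward (FSch.completionToX X I n) :=
  Scheme.Modules.pushforwardCongr (completion_w X I n)
theorem formal_sections_completion_aux (F : X.Modules) (I : X.IdealSheafData) (V : X.Opens) [∀ n, IsClosedImmersion (FSch.completionToX X I n)]
    (hz : ∀ p : ℕ, ∃ q : ℕ, p ≤ q ∧ EssZeroLib.ZeroStepMod k 1 ((Scheme.Modules.pullbackPushforwardAdjunction (FSch.completionToX X I q)).unit.app F)
      ((Scheme.Modules.pullbackPushforwardAdjunction (FSch.completionToX X I p)).unit.app F))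
    (hr : ∀ n, Set.range (FSch.completionToX X I n) ⊆ (V : Set X))
    (hF : Function.Bijective (F.presheaf.map (homOfLE (le_top : V ≤ ⊤)).op)) :
    (∀ y : (∀ n : ℕ, (Scheme.Modules.presheaf ((Scheme.Modules.pushforward (FSch.completionToX X I n)).obj ((FSch.completionMod I F).F n))).obj (Opposite.op V)),
      (∀ n : ℕ, Scheme.Modules.Hom.app
          ((Scheme.Modules.pushforward (FSch.completionToX X I (n + 1))).map
            ((Scheme.Modules.pullbackPushforwardAdjunction ((FSch.completionAlong X I).ι n)).unit.app ((FSch.completionMod I F).F (n + 1))) ≫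
          (Scheme.Modules.pushforwardComp ((FSch.completionAlong X I).ι n) (FSch.completionToX X I (n + 1))).hom.app _ ≫
          (congrC X I n).hom.app _ ≫
          (Scheme.Modules.pushforward (FSch.completionToX X I n)).map ((FSch.completionMod I F).e n).hom) V (y (n + 1)) = y n) →
        ∃ σ : (Scheme.Modules.presheaf F).obj (Opposite.op V),
          ∀ n : ℕ, Scheme.Modules.Hom.app ((unitC X F I n)) V σ = y n):=
  EssZeroLib.formal_sections_modSys (k := k) (FSch.completionAlong X I) (FSch.completionToX X I) (completion_w X I)
    (FSch.completionMod I F) rfl (unitC X F I) (heq_unitC X F I) (congrC X I) (fun _ => rfl) (fun n => inferInstance) hz V hr hF |>.2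

theorem completion_trans_eq (F : X.Modules) (I : X.IdealSheafData) (n : ℕ) : ((Scheme.Modules.pushforward (FSch.completionToX X I (n + 1))).map
            ((Scheme.Modules.pullbackPushforwardAdjunction ((FSch.completionAlong X I).ι n)).unit.app ((FSch.completionMod I F).F (n + 1))) ≫
          (Scheme.Modules.pushforwardComp ((FSch.completionAlong X I).ι n) (FSch.completionToX X I (n + 1))).hom.app _ ≫
          (Scheme.Modules.pushforwardCongr (completion_w X I n)).hom.app _ ≫
          (Scheme.Modules.pushforward (FSch.completionToX X I n)).map ((FSch.completionMod I F).e n).hom) = ((Scheme.Modules.pushforward (FSch.completionToX X I (n + 1))).map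
            ((Scheme.Modules.pullbackPushforwardAdjunction ((FSch.completionAlong X I).ι n)).unit.app ((FSch.completionMod I F).F (n + 1))) ≫
          (Scheme.Modules.pushforwardComp ((FSch.completionAlong X I).ι n) (FSch.completionToX X I (n + 1))).hom.app _ ≫
          (Scheme.Modules.pushforwardCongr (Scheme.IdealSheafData.inclusion_subschemeι (FSch.pow_succ_le X I n))).hom.app _ ≫
          (Scheme.Modules.pushforward (FSch.completionToX X I n)).map ((FSch.completionMod I F).e n).hom) := rfl

theorem formal_sections_completion (F : X.Modules) (I : X.IdealSheafData) (V : X.Opens) [∀ n, IsClosedImmersion (FSch.completionToX X I n)]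
    (hz : ∀ p : ℕ, ∃ q : ℕ, p ≤ q ∧ EssZeroLib.ZeroStepMod k 1 ((Scheme.Modules.pullbackPushforwardAdjunction (FSch.completionToX X I q)).unit.app F)
      ((Scheme.Modules.pullbackPushforwardAdjunction (FSch.completionToX X I p)).unit.app F))
    (hr : ∀ n, Set.range (FSch.completionToX X I n) ⊆ (V : Set X))
    (hF : Function.Bijective (F.presheaf.map (homOfLE (le_top : V ≤ ⊤)).op)) :
    (∀ σ : (Scheme.Modules.presheaf F).obj (Opposite.op V),
      (∀ n : ℕ, Scheme.Modules.Hom.app ((Scheme.Modules.pullbackPushforwardAdjunction (FSch.completionToX X I n)).unit.app F) V σ = 0) → σ = 0) ∧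
    (∀ y : (∀ n : ℕ, (Scheme.Modules.presheaf ((Scheme.Modules.pushforward (FSch.completionToX X I n)).obj ((FSch.completionMod I F).F n))).obj (Opposite.op V)),
      (∀ n : ℕ, Scheme.Modules.Hom.app
          ((Scheme.Modules.pushforward (FSch.completionToX X I (n + 1))).map
            ((Scheme.Modules.pullbackPushforwardAdjunction ((FSch.completionAlong X I).ι n)).unit.app ((FSch.completionMod I F).F (n + 1))) ≫
          (Scheme.Modules.pushforwardComp ((FSch.completionAlong X I).ι n) (FSch.completionToX X I (n + 1))).hom.app _ ≫
          (Scheme.Modules.pushforwardCongr (Scheme.IdealSheafData.inclusion_subschemeι (FSch.pow_succ_le X I n))).hom.app _ ≫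
          (Scheme.Modules.pushforward (FSch.completionToX X I n)).map ((FSch.completionMod I F).e n).hom) V (y (n + 1)) = y n) →
        ∃ σ : (Scheme.Modules.presheaf F).obj (Opposite.op V),
          ∀ n : ℕ, Scheme.Modules.Hom.app ((Scheme.Modules.pullbackPushforwardAdjunction (FSch.completionToX X I n)).unit.app F) V σ = y n) := by
  refine ⟨fun σ hσ => ?_, fun y hy => ?_⟩
  · exact (EssZeroLib.formal_sections_std (k := k) (FSch.completionAlong X I) (FSch.completionToX X I) (completion_w X I) (fun n => inferInstance) hz V hr hF).1 σ hσ
  · have h2 := formal_sections_completion_aux k X F I V hz hr hF y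
    have hgC : ∀ n, congrC X I n = Scheme.Modules.pushforwardCongr (completion_w X I n) := fun n => rfl
    simp only [hgC] at h2
    obtain ⟨σ, hσ⟩ := h2 fun n => (congrArg (fun g => Scheme.Modules.Hom.app g V (y (n + 1))) (completion_trans_eq X F I n)).trans (hy n)
    exact ⟨σ, fun n => hσ n⟩

end EssZeroLib
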