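import Groth.Agent.LefFlatLib.Alg
import Groth.Agent.PnDualLib.Embed
import Groth.Agent.VBPnLib.Pn
import Groth.Agent.CohAmpLib.Dim
import Groth.Agent.GenusZeroLib.PSpace

/-!
# Projective dimension from depth plus dimension of the closure
-/

set_option autoImplicit false
set_option linter.unusedSectionVars false
set_option maxHeartbeats 1000000
set_option backward.isDefEq.respectTransparency false
set_option backward.isDefEq.respectTransparency.types false
universe u

open CategoryTheory CategoryTheory.Limits AlgebraicGeometry TopologicalSpace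

noncomputable section

namespace EssZeroLib

variable {k : Type u} [Field k] {N : ℕ} {X : Scheme.{u}} (i : X ⟶ CohB1.ProjSpace N k) [IsClosedImmersion i]

theorem exists_dim_bound (z : X) : ∃ d a : ℕ, ringKrullDim ((CohB1.ProjSpace N k).presheaf.stalk (i z)) ≤ d ∧
    topologicalKrullDim (closure ({z} : Set X)) = a ∧ d + a ≤ N := by
  let P := CohB1.ProjSpace N k
  let y : P := i z
  have hcl : topologicalKrullDim (closure ({y} : Set P)) = topologicalKrullDim (closure ({z} : Set X)) := by
    let e : closure ({z} : Set X) ≃ₜ closure ({y} : Set P) :=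
      (i.isClosedEmbedding.isEmbedding.homeomorphImage (closure ({z} : Set X))).trans
        (Homeomorph.setCongr (by rw [← i.isClosedEmbedding.closure_image_eq, Set.image_singleton]))
    exact e.isHomeomorph.topologicalKrullDim_eq.symm
  have hP : topologicalKrullDim P ≤ (N : WithBot ℕ∞) := (GenusZeroLib.dim_projSpace k N).le
  have hdim : ∀ c : ℕ, (c : ℕ∞) ≤ Order.coheight y → topologicalKrullDim (closure ({y} : Set P)) + c ≤ (N : WithBot ℕ∞) :=
    fun c hc => (CohAmpLib.dim_add_le _ isClosed_closure c fun x hx =>
      hc.trans (Order.coheight_anti (specializes_iff_mem_closure.2 hx))).trans hP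
  obtain ⟨a, ha⟩ : ∃ a : ℕ, topologicalKrullDim (closure ({y} : Set P)) = a := by
    have h0 : (0 : WithBot ℕ∞) ≤ topologicalKrullDim (closure ({y} : Set P)) := by
      let y' : closure ({y} : Set P) := ⟨y, subset_closure rfl⟩
      haveI : Nonempty (IrreducibleCloseds (closure ({y} : Set P))) :=
        ⟨⟨closure {y'}, isIrreducible_singleton.closure, isClosed_closure⟩⟩
      exact Order.krullDim_nonneg (α := IrreducibleCloseds (closure ({y} : Set P)))
    have h1 := hdim 0 bot_le
    revert h0 h1
    induction topologicalKrullDim (closure ({y} : Set P)) with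
    | bot => exact fun h => absurd h (by simp)
    | coe d =>
      intro _ h1
      have hd : d ≤ (N : ℕ∞) := by exact_mod_cast (by simpa using h1 : (d : WithBot ℕ∞) ≤ (N : WithBot ℕ∞))
      obtain ⟨a, rfl⟩ := ENat.ne_top_iff_exists.1 (ne_top_of_le_ne_top (ENat.coe_ne_top N) hd)
      exact ⟨a, rfl⟩
  obtain ⟨d, hd, hda⟩ : ∃ d : ℕ, Order.coheight y = d ∧ d + a ≤ N := by
    have h : ∀ c : ℕ, (c : ℕ∞) ≤ Order.coheight y → c + a ≤ N := fun c hc => by
      have := hdim c hc
      rw [ha] at this
      rw [add_comm]
      exact_mod_cast this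
    cases hc : Order.coheight y with
    | top => exact absurd (h (N + 1) (by simp [hc])) (by omega)
    | coe d => exact ⟨d, rfl, h d hc.ge⟩
  refine ⟨d, a, ?_, hcl.symm.trans ha, hda⟩
  rw [ringKrullDim_stalk_eq_coheight, hd]
  rfl

/-- `depth + dim closure > n` gives projective dimension `< N - n` after embedding. -/
theorem pdlt_push (G : X.Modules) (hG : Coh.IsCoh G) (z : X) (n r : ℕ) (hr : N ≤ r + n + 1)
    (h : (n : WithBot ℕ∞) < (LocCoh.depth (X.presheaf.stalk z) (G.presheaf.stalk z) : WithBot ℕ∞) +
      topologicalKrullDim (closure ({z} : Set X))) :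
    CommAlgDim.PDLT ((CohB1.ProjSpace N k).presheaf.stalk (i z)) (((Coh.push i).obj G).presheaf.stalk (i z)) (r + 1) ∧
      (N ≤ n → Subsingleton (((Coh.push i).obj G).presheaf.stalk (i z))) := by
  haveI := VBPnLib.regular_pn (n := N) (k := k) (i z)
  haveI := (PnDualLib.isCoh_push' i hG).1
  haveI : Module.Finite ((CohB1.ProjSpace N k).presheaf.stalk (i z)) (((Coh.push i).obj G).presheaf.stalk (i z)) :=
    DepthLib.finite_stalk _ (PnDualLib.isCoh_push' i hG).2 (i z)
  obtain ⟨d, a, hd, ha, hda⟩ := exists_dim_bound i z
  rw [ha, ← PnDualLib.depth_push i G hG z] at h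
  rcases lt_or_ge n a with hna | hna
  · refine ⟨?_, fun hN => absurd hna (by omega)⟩
    refine CommAlgDim.PDLT.mono (show d + 1 ≤ r + 1 by omega) ?_
    by_cases hd0 : Subsingleton (((Coh.push i).obj G).presheaf.stalk (i z))
    · haveI : Module.Projective ((CohB1.ProjSpace N k).presheaf.stalk (i z)) (((Coh.push i).obj G).presheaf.stalk (i z)) :=
        Module.Projective.of_free
      exact (CommAlgDim.pdlt_one_iff.2 inferInstance).mono (by omega)
    · refine (CommAlgDim.pdlt_of_isRegularLocalRing _ _).mono (Nat.add_le_add_right ?_ 1)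
      have hreg := IsRegularLocalRing.spanFinrank_maximalIdeal (R := (CohB1.ProjSpace N k).presheaf.stalk (i z))
      exact Nat.cast_le (α := WithBot ℕ∞).1 (hreg.le.trans hd)
  · have hdep : ((n - a : ℕ) : ℕ∞) < LocCoh.depth ((CohB1.ProjSpace N k).presheaf.stalk (i z))
        (((Coh.push i).obj G).presheaf.stalk (i z)) := by
      generalize LocCoh.depth ((CohB1.ProjSpace N k).presheaf.stalk (i z))
        (((Coh.push i).obj G).presheaf.stalk (i z)) = t at h
      induction t with
      | top => exact ENat.coe_lt_top _
      | coe t =>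
        have : n < t + a := by exact_mod_cast h
        exact_mod_cast (show n - a < t by omega)
    exact ⟨LefFlatLib.pdlt_of_depth hd _ (n - a) r (by omega) hdep,
      fun hN => LefFlatLib.subsingleton_of_depth hd _ (n - a) (by omega) hdep⟩

end EssZeroLib
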