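import Groth.Agent.EssZeroLib.Kill
import Groth.Agent.EssZeroLib.Limit
import Groth.Agent.IntMultLib.Cartier
import Groth.Agent.SerreVanLib.Converse

/-!
# From essentially zero twists to the powers of the ideal
-/

set_option autoImplicit false
set_option linter.unusedSectionVars false
set_option maxHeartbeats 1000000
set_option backward.isDefEq.respectTransparency false
set_option backward.isDefEq.respectTransparency.types false
universe u

open CategoryTheory CategoryTheory.Limits AlgebraicGeometry TopologicalSpace Opposite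
open ProjFormLib (tF ger ger_res ger_smul ger_map exists_ger)
open CohCmpLib (stk)
open PnDualLib (sm)

noncomputable section

namespace EssZeroLib

variable {X : Scheme.{u}}

/-- The image of the ideal in a stalk. -/
theorem exists_stalk_gen (I : X.IdealSheafData) (V : X.affineOpens) (g : Γ(X, V.1)) (hg : I.ideal V = Ideal.span {g})
    (y : X) (hy : y ∈ V.1) :
    (∃ w, sm (ClSub.idealModι I) y w = X.presheaf.germ V.1 y hy g • one X y) ∧
    ∀ w, ∃ v, sm (ClSub.idealModι I) y w = (X.presheaf.germ V.1 y hy g * v) • one X y := by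
  constructor
  · obtain ⟨s, hs⟩ := IntMultLib.exists_section I V (hg ▸ Ideal.mem_span_singleton_self g)
    exact ⟨ger (ClSub.idealMod I) y hy s, (ger_map _ y hy s).trans ((congrArg (ger _ y hy) hs).trans (ger_fun_eq y hy g))⟩
  · intro w
    obtain ⟨O, hyO, s, rfl⟩ := exists_ger (ClSub.idealMod I) y w
    obtain ⟨b, hble, hyb⟩ := V.2.exists_basicOpen_le (V := O) ⟨y, hyO⟩ hy
    let D : X.affineOpens := ⟨X.basicOpen b, V.2.basicOpen b⟩
    let r : Γ(X, D.1) := show Γ(X, D.1) from (ClSub.idealModι I).app D.1 (ProjFormLib.res (ClSub.idealMod I) hble s)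
    have hr : r ∈ I.ideal D := by
      rw [← IntMultLib.toSubscheme_app_eq_zero_iff]
      exact congrArg (fun φ : ClSub.idealMod I ⟶ _ => φ.app D.1 (ProjFormLib.res (ClSub.idealMod I) hble s))
        (kernel.condition (ClSub.toSubscheme I))
    have hD : I.ideal D = Ideal.span {(X.presheaf.map (homOfLE (X.basicOpen_le b)).op).hom g} :=
      (I.map_ideal_basicOpen V b).symm.trans (by rw [hg, Ideal.map_span, Set.image_singleton])
    obtain ⟨v, hv⟩ := Ideal.mem_span_singleton'.1 (hD ▸ hr)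
    refine ⟨X.presheaf.germ D.1 y hyb v, ?_⟩
    rw [← ger_res (ClSub.idealMod I) hble y hyb s]
    refine (ger_map _ y hyb _).trans ?_
    refine (ger_fun_eq y hyb r).trans (congrArg (· • one X y) ?_)
    refine (congrArg (X.presheaf.germ D.1 y hyb) hv.symm).trans ?_
    rw [map_mul, mul_comm]
    exact congrArg (· * _) (TopCat.Presheaf.germ_res_apply X.presheaf (homOfLE (X.basicOpen_le b)) y hyb g)

variable {T : X.Modules} {σ : T ⟶ Coh.structureModule X} {J : X.IdealSheafData}

/-- `τₚ` lands in the `p`-th power of the ideal, onto. -/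
theorem exists_toPow (hA : Adapted σ J) (p : ℕ) :
    ∃ ψ : (W T p).obj (Coh.structureModule X) ⟶ ClSub.idealMod (J ^ p),
      ψ ≫ ClSub.idealModι (J ^ p) = tau σ p (Coh.structureModule X) ∧ Epi ψ := by
  let O := Coh.structureModule X
  have hmono : ∀ y : X, Function.Injective (sm (ClSub.idealModι (J ^ p)) y) := fun y =>
    (ModuleCat.mono_iff_injective _).1 (by
      haveI : Mono (ClSub.idealModι (J ^ p)) := inferInstanceAs (Mono (kernel.ι _))
      exact inferInstanceAs (Mono ((DerSch.stalkFunctor X y).map (ClSub.idealModι (J ^ p)))))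
  have hpow : ∀ (V : X.affineOpens) (f : Γ(X, V.1)), J.ideal V = Ideal.span {f} →
      (J ^ p).ideal V = Ideal.span {f ^ p} := fun V f h => by
    rw [Scheme.IdealSheafData.ideal_pow, Pi.pow_apply, h, Ideal.span_singleton_pow]
  have h0 : tau σ p O ≫ ClSub.toSubscheme (J ^ p) = 0 := eq_zero_of_stalks _ fun y v => by
    obtain ⟨V, f, hy, hJ, ht⟩ := hA y
    obtain ⟨t, ht⟩ := ht y hy
    obtain ⟨q, hq, hv⟩ := exists_model ht O p
    obtain ⟨v, rfl⟩ := hq.2 v
    obtain ⟨w, hw⟩ := (exists_stalk_gen (J ^ p) V _ (hpow V f hJ) y hy).1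
    obtain ⟨c, rfl⟩ := (bijective_one y).2 v
    rw [sm_comp', hv, smul_comm, map_smul, ← map_pow, ← hw, ← sm_comp',
      show ClSub.idealModι (J ^ p) ≫ ClSub.toSubscheme (J ^ p) = 0 from kernel.condition _, PnDualLib.sm_zero,
      LinearMap.zero_apply, smul_zero]
  let ψ : (W T p).obj O ⟶ ClSub.idealMod (J ^ p) := kernel.lift _ _ h0
  have hψ : ψ ≫ ClSub.idealModι (J ^ p) = tau σ p O := kernel.lift_ι _ _ _
  refine ⟨ψ, hψ, CohCmpLib.epi_of_stalk_surjective fun y w => ?_⟩
  obtain ⟨V, f, hy, hJ, ht⟩ := hA y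
  obtain ⟨t, ht⟩ := ht y hy
  obtain ⟨q, hq, hv⟩ := exists_model ht O p
  obtain ⟨c, hc⟩ := (exists_stalk_gen (J ^ p) V _ (hpow V f hJ) y hy).2 w
  refine ⟨q (c • one X y), hmono y ?_⟩
  show sm (ClSub.idealModι (J ^ p)) y (sm ψ y (q (c • one X y))) = _
  rw [← sm_comp', hψ, hv, hc, smul_smul, map_pow]

/-- Beyond the torsion, the powers map back to the twists. -/
theorem exists_fromPow [IsLocallyNoetherian X] [CompactSpace X] (hA : Adapted σ J) :
    ∃ c : ℕ, ∀ p : ℕ, ∃ φ : ClSub.idealMod (J ^ (c + p)) ⟶ (W T p).obj (Coh.structureModule X),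
      φ ≫ tau σ p (Coh.structureModule X) = ClSub.idealModι (J ^ (c + p)) := by
  let O := Coh.structureModule X
  obtain ⟨c, hc⟩ := exists_ann_bound_all hA.hasCharts
  refine ⟨c, fun p => ?_⟩
  obtain ⟨ψ, hψ, hψe⟩ := exists_toPow hA (c + p)
  let u : (W T (c + p)).obj O ⟶ (W T p).obj O := eqToHom (W_add p c O).symm ≫ tau σ c _
  have hu : u ≫ tau σ p O = tau σ (c + p) O := by
    rw [Category.assoc, tau_add σ p c O, eqToHom_trans_assoc, eqToHom_refl, Category.id_comp]
  have hk : kernel.ι ψ ≫ u = 0 := eq_zero_of_stalks _ fun y w => by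
    obtain ⟨V, f, hy, hJ, ht⟩ := hA y
    obtain ⟨t, ht⟩ := ht y hy
    set a := X.presheaf.germ V.1 y hy f
    obtain ⟨q, hq, hv⟩ := exists_model ht O (c + p)
    obtain ⟨qp, hqp, hvp⟩ := exists_model ht O p
    obtain ⟨z, hz⟩ := hq.2 (sm (kernel.ι ψ) y w)
    obtain ⟨z, rfl⟩ := (bijective_one y).2 z
    have h0 : a ^ (c + p) * z = 0 := (bijective_one y).1 (by
      show (a ^ (c + p) * z) • one X y = (0 : X.presheaf.stalk y) • one X y
      rw [zero_smul, mul_smul, ← hv, hz, ← sm_comp', ← hψ, ← Category.assoc, kernel.condition, zero_comp,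
        PnDualLib.sm_zero, LinearMap.zero_apply])
    have h1 : a ^ c * z = 0 := hc y (c + p) t a ht z h0
    obtain ⟨b, hb⟩ := hqp.2 (sm u y (q (z • one X y)))
    obtain ⟨qq, hqq, hvq⟩ := exists_model ht ((W T p).obj O) c
    obtain ⟨d, hd⟩ := hqq.2 (sm (eqToHom (W_add p c O).symm) y (q (z • one X y)))
    obtain ⟨d', rfl⟩ := hqp.2 d
    obtain ⟨d', rfl⟩ := (bijective_one y).2 d'
    rw [sm_comp', ← hz, sm_comp', ← hd, hvq, ← map_smul, smul_smul]
    suffices a ^ c * d' = 0 by rw [this, zero_smul, map_zero]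
    refine hc y (2 * c + p) t a ht d' ((bijective_one y).1 ?_)
    show (a ^ (2 * c + p) * d') • one X y = (0 : X.presheaf.stalk y) • one X y
    have e : a ^ c • a ^ p • d' • one X y = a ^ (c + p) • z • one X y := by
      rw [← hv, ← hvp, ← map_smul, ← hvq, hd, ← sm_comp', ← sm_comp', ← Category.assoc]
      exact congrArg (fun g => sm g y (q (z • one X y))) hu
    rw [zero_smul, show 2 * c + p = c + (c + p) by omega, pow_add, mul_assoc, mul_smul, pow_add, mul_assoc, mul_smul,
      mul_smul, e, ← mul_smul (a ^ (c + p)), h0, zero_smul, smul_zero]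
  refine ⟨(Abelian.epiIsCokernelOfKernel _ (kernelIsKernel ψ)).desc (CokernelCofork.ofπ u hk), ?_⟩
  rw [← cancel_epi ψ, ← Category.assoc]
  refine (congrArg (· ≫ tau σ p O)
    ((Abelian.epiIsCokernelOfKernel _ (kernelIsKernel ψ)).fac (CokernelCofork.ofπ u hk) WalkingParallelPair.one)).trans ?_
  exact hu.trans hψ.symm

variable (k : Type u) [Field k] [X.Over (Spec (CommRingCat.of k))] (σ)

/-- Cohomology of the twists below degree `c` forms an essentially zero system. -/
def EssZero (c : ℕ) (F : X.Modules) : Prop :=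
  ∃ e m₀ : ℕ, ∀ m : ℕ, m₀ ≤ m → ∀ j : ℕ, j < c → ∀ x,
    CurvLib.hMap (k := k) ((W T m).map (mulApp (tau σ e (Coh.structureModule X)) F)) j x = 0

/-- The same for the iterated multiplications. -/
def TauZero (c : ℕ) (F : X.Modules) : Prop :=
  ∃ e m₀ : ℕ, ∀ m : ℕ, m₀ ≤ m → ∀ j : ℕ, j < c → ∀ x,
    CurvLib.hMap (k := k) ((W T m).map (tau σ e F)) j x = 0

variable {σ}

/-- `P ⟶ P ⊗ O` followed by the multiplication is the given map. -/
theorem exists_unit_section {P : X.Modules} (s : P ⟶ Coh.structureModule X) :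
    ∃ u : P ⟶ (tF P).obj (Coh.structureModule X), u ≫ mulApp s (Coh.structureModule X) = s := by
  obtain ⟨φ, hφ, happ⟩ := SerreVanLib.exists_unit_iso P
  refine ⟨inv φ, ?_⟩
  rw [IsIso.inv_comp_eq]
  refine KFlatLib.tens_hom_ext fun U a (r : Γ(Coh.structureModule X, U)) => ?_
  refine (mulApp_shTm s _ a r).trans (Eq.trans ?_ (congrArg (s.app U) (happ U a r)).symm)
  refine Eq.trans ?_ (QCohLib.app_smul s U (show Γ(X, U) from r) a).symm
  exact mul_comm (show Γ(X, U) from s.app U a) (show Γ(X, U) from r)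

theorem exists_zeroStep [IsLocallyNoetherian X] [CompactSpace X] (hA : Adapted σ J) {n : ℕ}
    (hz : TauZero σ k (n + 1) (Coh.structureModule X)) (p : ℕ) :
    ∃ q : ℕ, p ≤ q ∧ ZeroStep k n (J ^ q) (J ^ p) := by
  let O := Coh.structureModule X
  obtain ⟨e, m₀, he⟩ := hz
  obtain ⟨c, hc⟩ := exists_fromPow hA
  let m := max m₀ p
  obtain ⟨φ, hφ⟩ := hc (m + e)
  obtain ⟨ψ, hψ, -⟩ := exists_toPow hA m
  refine ⟨c + (m + e), by omega, ?_⟩
  refine ZeroStep.mono (I := J ^ (c + (m + e))) (J := J ^ m)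
    ⟨φ ≫ eqToHom (W_add e m O).symm ≫ (W T m).map (tau σ e O) ≫ ψ, ?_, fun j hj x => ?_⟩ le_rfl ?_
  · rw [Category.assoc, Category.assoc, Category.assoc, hψ, map_tau_comp, eqToHom_trans_assoc, eqToHom_refl,
      Category.id_comp, hφ]
  · rw [CurvLib.hMap_comp, CurvLib.hMap_comp, CurvLib.hMap_comp, he m (le_max_left _ _) j (Nat.lt_succ_of_le hj),
      map_zero]
  · exact antitone_nat_of_succ_le (f := fun i => J ^ i)
      (fun i => by rw [pow_succ]; exact mul_le_of_le_one_right' le_top) (le_max_right m₀ p)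

end EssZeroLib
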