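import Groth.Agent.EssZeroLib.Mul
import Groth.Agent.QCohLib.AffineFinite
import Groth.Agent.QCohLib.QcqsSections

/-!
# Coherent modules killed by powers of a section
-/

set_option autoImplicit false
set_option linter.unusedSectionVars false
set_option maxHeartbeats 1000000
set_option backward.isDefEq.respectTransparency false
set_option backward.isDefEq.respectTransparency.types false
universe u

open CategoryTheory CategoryTheory.Limits AlgebraicGeometry TopologicalSpace Opposite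
open ProjFormLib (tF ger ger_res ger_smul ger_map exists_ger)
open CohCmpLib (stk)
open PnDualLib (sm)

noncomputable section

namespace EssZeroLib

variable {X : Scheme.{u}} {T : X.Modules} (σ : T ⟶ Coh.structureModule X)

/-- Affine charts on which `σ` is multiplication by a function. -/
def HasCharts : Prop :=
  ∀ x : X, ∃ (V : X.affineOpens) (f : Γ(X, V.1)), x ∈ V.1 ∧
    ∀ (y : X) (hy : y ∈ V.1), ∃ t : stk T y, GenVal σ y t (X.presheaf.germ V.1 y hy f)

/-- Where `σ` does not vanish. -/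
def Inv (y : X) : Prop := ∀ (t : stk T y) (a : X.presheaf.stalk y), GenVal σ y t a → IsUnit a

/-- Charts of `σ` adapted to an ideal. -/
def Adapted (J : X.IdealSheafData) : Prop :=
  ∀ x : X, ∃ (V : X.affineOpens) (f : Γ(X, V.1)), x ∈ V.1 ∧ J.ideal V = Ideal.span {f} ∧
    ∀ (y : X) (hy : y ∈ V.1), ∃ t : stk T y, GenVal σ y t (X.presheaf.germ V.1 y hy f)

variable {σ}

theorem Adapted.hasCharts {J : X.IdealSheafData} (h : Adapted σ J) : HasCharts σ := fun x => by
  obtain ⟨V, f, hx, -, hV⟩ := h x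
  exact ⟨V, f, hx, hV⟩

theorem genVal_unique {y : X} {t t' : stk T y} {a a' : X.presheaf.stalk y} (h : GenVal σ y t a)
    (h' : GenVal σ y t' a') : IsUnit a → IsUnit a' := by
  intro ha
  obtain ⟨c, hc⟩ := h'.1.2 t
  obtain ⟨d, hd⟩ := h.1.2 t'
  have hcd : c * d = 1 := h.1.1 (by
    show (c * d) • t = (1 : X.presheaf.stalk y) • t
    rw [mul_comm, one_smul]
    show (d * c) • t = t
    conv_rhs => rw [← hc]
    rw [mul_comm, mul_smul]
    exact congrArg (c • ·) hd)
  have e : a = c * a' := (bijective_one y).1 (by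
    show a • one X y = (c * a') • one X y
    rw [mul_smul, ← h'.2, ← h.2, ← map_smul]
    exact congrArg (sm σ y) hc.symm)
  rw [e] at ha
  exact isUnit_of_mul_isUnit_right ha

theorem inv_of_genVal {y : X} {t : stk T y} {a : X.presheaf.stalk y} (h : GenVal σ y t a) (ha : IsUnit a) :
    Inv σ y := fun _ _ h' => genVal_unique h h' ha

theorem eq_zero_of_stalks {A B : X.Modules} (g : A ⟶ B) (h : ∀ (y : X) (v : stk A y), sm g y v = 0) : g = 0 := by
  refine Scheme.Modules.hom_ext _ _ fun U => ?_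
  ext s
  refine ProjFormLib.section_ext _ _ fun y hy => ?_
  refine ((ger_map g y hy s).symm.trans (h y _)).trans ?_
  exact (map_zero (B.presheaf.germ U y hy).hom).symm

/-- Killing on one chart. -/
theorem exists_pow_chart (N : X.Modules) [Coh.IsQCoh N] (hFT : CohB1.IsFT N) (V : X.affineOpens) (f : Γ(X, V.1))
    (hN : ∀ y ∈ X.basicOpen f, Subsingleton (N.presheaf.stalk y)) :
    ∃ c : ℕ, ∀ (y : X) (hy : y ∈ V.1) (v : stk N y), X.presheaf.germ V.1 y hy f ^ c • v = 0 := by
  classical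
  haveI := QCohLib.finite_of_isFT hFT V.2
  obtain ⟨S, hS⟩ := Module.Finite.fg_top (R := Γ(X, V.1)) (M := Γ(N, V.1))
  have hz : ∀ n : Γ(N, V.1), ∃ k : ℕ, f ^ k • n = 0 := fun n => by
    obtain ⟨k, hk⟩ := QCohLib.exists_pow_smul_eq_zero f V.1 V.2.isCompact le_rfl n
      (ProjFormLib.section_ext _ _ fun y hy => by
        haveI := hN y hy.2
        exact Subsingleton.elim (α := N.presheaf.stalk y) _ _)
    exact ⟨k, by
      rw [show X.presheaf.map (homOfLE (le_refl V.1)).op = 𝟙 _ from X.presheaf.map_id _] at hk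
      exact hk⟩
  choose k hk using hz
  refine ⟨S.sum k, fun y hy v => ?_⟩
  have hall : ∀ n : Γ(N, V.1), f ^ S.sum k • n = 0 := fun n => by
    have hn : n ∈ Submodule.span Γ(X, V.1) (S : Set Γ(N, V.1)) := hS ▸ Submodule.mem_top
    induction hn using Submodule.span_induction with
    | mem w hw =>
      rw [← Nat.sub_add_cancel (Finset.single_le_sum (fun j _ => Nat.zero_le (k j)) hw), pow_add, mul_smul, hk,
        smul_zero]
    | zero => exact smul_zero _
    | add _ _ _ _ h1 h2 => rw [smul_add, h1, h2, add_zero]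
    | smul r _ _ h1 => rw [smul_comm, h1, smul_zero]
  obtain ⟨O, hyO, n, rfl⟩ := exists_ger N y v
  obtain ⟨g, hgle, hyg⟩ := V.2.exists_basicOpen_le (V := O) ⟨y, hyO⟩ hy
  obtain ⟨j, b, hb⟩ := (QCohLib.localizingAt_of_qcqs N V.2.isCompact V.2.isQuasiSeparated g).exists_extend
    (ProjFormLib.res N hgle n)
  have hu : IsUnit (X.presheaf.germ V.1 y hy g ^ j) := ((X.mem_basicOpen g y hy).1 hyg).pow j
  refine hu.smul_eq_zero.1 ?_
  have e : ger N y hy b = X.presheaf.germ V.1 y hy g ^ j • ger N y hyO n := by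
    rw [← ger_res N hgle y hyg n, ← map_pow, ← ger_res N (X.basicOpen_le g) y hyg b]
    refine (congrArg (ger N y hyg) (show ProjFormLib.res N (X.basicOpen_le g) b = _ from hb)).trans ?_
    rw [ger_smul, map_pow, map_pow]
    refine congrArg (fun z => z ^ j • _) ?_
    exact TopCat.Presheaf.germ_res_apply X.presheaf (homOfLE (X.basicOpen_le g)) y hyg g
  rw [smul_comm, ← e, ← map_pow, ← ger_smul, hall b]
  exact map_zero (N.presheaf.germ V.1 y hy).hom

theorem tau_eq_zero (h : HasCharts σ) [CompactSpace X] (N : X.Modules) [Coh.IsQCoh N] (hFT : CohB1.IsFT N)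
    (hN : ∀ y, Inv σ y → Subsingleton (N.presheaf.stalk y)) : ∃ c : ℕ, tau σ c N = 0 := by
  classical
  choose V f hx hV using h
  choose c hc using fun x => exists_pow_chart N hFT (V x) (f x) fun y hy => by
    obtain ⟨t, ht⟩ := hV x y (X.basicOpen_le _ hy)
    exact hN y (inv_of_genVal ht ((X.mem_basicOpen (f x) y (X.basicOpen_le _ hy)).1 hy))
  obtain ⟨S, hS⟩ := isCompact_univ.elim_finite_subcover (fun x => ((V x).1 : Set X)) (fun x => (V x).1.2)
    fun x _ => Set.mem_iUnion.2 ⟨x, hx x⟩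
  refine ⟨S.sum c, eq_zero_of_stalks _ fun y v => ?_⟩
  obtain ⟨x, hxS, hy⟩ := Set.mem_iUnion₂.1 (hS (Set.mem_univ y))
  obtain ⟨t, ht⟩ := hV x y hy
  obtain ⟨p, hp, hv⟩ := exists_model ht N (S.sum c)
  obtain ⟨w, rfl⟩ := hp.2 v
  rw [hv, ← Nat.sub_add_cancel (Finset.single_le_sum (fun j _ => Nat.zero_le (c j)) hxS), pow_add, mul_smul, hc,
    smul_zero]

/-- The torsion of the powers of a function stabilises, uniformly in the stalks of a chart. -/
theorem exists_ann_bound [IsLocallyNoetherian X] (V : X.affineOpens) (f : Γ(X, V.1)) :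
    ∃ c : ℕ, ∀ (y : X) (hy : y ∈ V.1) (p : ℕ) (v : X.presheaf.stalk y),
      X.presheaf.germ V.1 y hy f ^ p * v = 0 → X.presheaf.germ V.1 y hy f ^ c * v = 0 := by
  haveI : IsNoetherianRing Γ(X, V.1) := IsLocallyNoetherian.component_noetherian V
  let A : ℕ →o Ideal Γ(X, V.1) :=
    ⟨fun c => LinearMap.ker (LinearMap.mulLeft Γ(X, V.1) (f ^ c)), fun a b hab v hv => by
      simp only [LinearMap.mem_ker, LinearMap.mulLeft_apply] at hv ⊢
      rw [← Nat.sub_add_cancel hab, pow_add, mul_assoc, hv, mul_zero]⟩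
  obtain ⟨c, hc⟩ := monotone_stabilizes_iff_noetherian.2 (inferInstanceAs (IsNoetherian Γ(X, V.1) Γ(X, V.1))) A
  refine ⟨c, fun y hy p v hv => ?_⟩
  letI := TopCat.Presheaf.algebra_section_stalk X.presheaf (⟨y, hy⟩ : V.1)
  haveI := V.2.isLocalization_stalk ⟨y, hy⟩
  let P := (V.2.primeIdealOf ⟨y, hy⟩).asIdeal.primeCompl
  obtain ⟨a, w, rfl⟩ := IsLocalization.exists_mk'_eq P v
  change algebraMap Γ(X, V.1) (X.presheaf.stalk y) f ^ p * _ = 0 at hv
  show algebraMap Γ(X, V.1) (X.presheaf.stalk y) f ^ c * _ = 0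
  rw [← map_pow, IsLocalization.mul_mk'_eq_mk'_of_mul, IsLocalization.mk'_eq_zero_iff] at hv ⊢
  obtain ⟨u, hu⟩ := hv
  refine ⟨u, ?_⟩
  have hmem : (u : Γ(X, V.1)) * a ∈ A (max c p) := by
    refine A.monotone (le_max_right c p) ?_
    show f ^ p * ((u : Γ(X, V.1)) * a) = 0
    rw [mul_left_comm]; exact hu
  rw [← hc _ (le_max_left c p)] at hmem
  rw [mul_left_comm]
  exact hmem

theorem exists_ann_bound_all [IsLocallyNoetherian X] [CompactSpace X] (h : HasCharts σ) :
    ∃ c : ℕ, ∀ (y : X) (p : ℕ) (t : stk T y) (a : X.presheaf.stalk y), GenVal σ y t a →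
      ∀ v : X.presheaf.stalk y, a ^ p * v = 0 → a ^ c * v = 0 := by
  classical
  choose V f hx hV using h
  choose c hc using fun x => exists_ann_bound (V x) (f x)
  obtain ⟨S, hS⟩ := isCompact_univ.elim_finite_subcover (fun x => ((V x).1 : Set X)) (fun x => (V x).1.2)
    fun x _ => Set.mem_iUnion.2 ⟨x, hx x⟩
  refine ⟨S.sum c, fun y p t a ha v hv => ?_⟩
  obtain ⟨x, hxS, hy⟩ := Set.mem_iUnion₂.1 (hS (Set.mem_univ y))
  obtain ⟨t', ht'⟩ := hV x y hy
  obtain ⟨d, hd⟩ := ha.1.2 t'
  obtain ⟨d', hd'⟩ := ht'.1.2 t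
  have hdd : d' * d = 1 := ha.1.1 (by
    show (d' * d) • t = (1 : X.presheaf.stalk y) • t
    rw [mul_smul, one_smul, show d • t = t' from hd]; exact hd')
  have hu : IsUnit d := IsUnit.of_mul_eq_one d' (by rw [mul_comm]; exact hdd)
  have e : X.presheaf.germ (V x).1 y hy (f x) = d * a := (bijective_one y).1 (by
    show _ • one X y = (d * a) • one X y
    rw [← ht'.2, mul_smul, ← ha.2, ← map_smul]
    exact congrArg (sm σ y) hd.symm)
  have h1 := hc x y hy p v (by rw [e, mul_pow, mul_assoc, hv, mul_zero])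
  rw [e, mul_pow, mul_assoc] at h1
  rw [← Nat.sub_add_cancel (Finset.single_le_sum (fun j _ => Nat.zero_le (c j)) hxS), pow_add, mul_assoc,
    (hu.pow _).mul_right_eq_zero.1 h1, mul_zero]

end EssZeroLib
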