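import Groth.Agent.EssZeroLib.Kill
import Groth.Agent.HomCohLib.FullyFaithful
import Groth.Agent.PnDualLib.HomExt
import Groth.Agent.FlatLib.QStalk

/-!
# The identity is locally a composite where a module is projective
-/

set_option autoImplicit false
set_option linter.unusedSectionVars false
set_option maxHeartbeats 1000000
set_option backward.isDefEq.respectTransparency false
set_option backward.isDefEq.respectTransparency.types false
universe u

open CategoryTheory CategoryTheory.Limits AlgebraicGeometry TopologicalSpace Opposite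
open ProjFormLib (tF ger ger_res ger_smul ger_map exists_ger res)
open CohCmpLib (stk homMod happ)
open PnDualLib (sm)
open HomCohLib (mapR ofHom)

noncomputable section

namespace EssZeroLib

variable {X : Scheme.{u}} {V K : X.Modules}

theorem exists_local_section [IsLocallyNoetherian X] (hV : Coh.IsCoh V) (hK : Coh.IsCoh K) (g : V ⟶ K) [Epi g]
    (y : X) (hy : Module.Projective (X.presheaf.stalk y) (K.presheaf.stalk y)) {U : X.Opens} (hU : IsAffineOpen U)
    (hyU : y ∈ U) :
    ∃ (b : Γ(X, U)) (f : Γ(K, U) →ₗ[Γ(X, U)] Γ(V, U)), IsUnit (X.presheaf.germ U y hyU b) ∧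
      ∀ m, g.app U (f m) = b • m := by
  haveI : Coh.IsQCoh V := hV.1
  haveI : Coh.IsQCoh K := hK.1
  haveI : IsNoetherianRing Γ(X, U) := IsLocallyNoetherian.component_noetherian ⟨U, hU⟩
  haveI := QCohLib.finite_of_isFT hK.2 hU
  haveI := Module.finitePresentation_of_finite Γ(X, U) Γ(K, U)
  haveI : Module.Projective (X.presheaf.stalk y) (stk K y) := hy
  obtain ⟨sect, hsect⟩ := Module.projective_lifting_property (sm g y) LinearMap.id
    ((ModuleCat.epi_iff_surjective _).1 (inferInstanceAs (Epi ((DerSch.stalkFunctor X y).map g))))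
  letI : Module Γ(X, U) (V.presheaf.stalk y) := Module.compHom (V.presheaf.stalk y) (X.presheaf.germ U y hyU).hom
  haveI hloc : IsLocalizedModule (hU.primeIdealOf ⟨y, hyU⟩).asIdeal.primeCompl (FlatLib.germLin V hyU) :=
    FlatLib.isLocalizedModule_germLin V hU hyU
  let l : Γ(K, U) →ₗ[Γ(X, U)] V.presheaf.stalk y :=
    { toFun := fun m => (show V.presheaf.stalk y from sect (ger K y hyU m))
      map_add' := fun a b => by
        rw [show ger K y hyU (a + b) = ger K y hyU a + ger K y hyU b from map_add (K.presheaf.germ U y hyU).hom a b,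
          map_add]
      map_smul' := fun r a => by
        rw [ger_smul, map_smul]
        rfl }
  obtain ⟨f, b, hf⟩ := Module.FinitePresentation.exists_lift_of_isLocalizedModule
    (hU.primeIdealOf ⟨y, hyU⟩).asIdeal.primeCompl (FlatLib.germLin V hyU) l
  have hunit : ∀ r ∈ (hU.primeIdealOf ⟨y, hyU⟩).asIdeal.primeCompl, IsUnit (X.presheaf.germ U y hyU r) := by
    intro r hr
    letI : Algebra Γ(X, U) (X.presheaf.stalk y) := (X.presheaf.germ U y hyU).hom.toAlgebra
    haveI : IsLocalization.AtPrime (X.presheaf.stalk y) (hU.primeIdealOf ⟨y, hyU⟩).asIdeal :=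
      hU.isLocalization_stalk ⟨y, hyU⟩
    exact IsLocalization.map_units (X.presheaf.stalk y) ⟨r, hr⟩
  have hzero : ∀ m, ∃ r : Γ(X, U), IsUnit (X.presheaf.germ U y hyU r) ∧ r • (g.app U (f m) - b.1 • m) = 0 := by
    intro m
    refine HomCohLib.exists_kill hU y hyU _ ?_
    have h1 : ger V y hyU (f m) = X.presheaf.germ U y hyU b.1 • sect (ger K y hyU m) := LinearMap.congr_fun hf m
    rw [show ger K y hyU (g.app U (f m) - b.1 • m) = ger K y hyU (g.app U (f m)) - ger K y hyU (b.1 • m) from
      map_sub (K.presheaf.germ U y hyU).hom _ _, ← ger_map g y hyU, h1, ger_smul,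
      show ((DerSch.stalkFunctor X y).map g).hom = sm g y from rfl, map_smul,
      show sm g y (sect (ger K y hyU m)) = ger K y hyU m from LinearMap.congr_fun hsect _, sub_self]
  choose r hr hr0 using hzero
  obtain ⟨s, hs⟩ := Module.Finite.fg_top (R := Γ(X, U)) (M := Γ(K, U))
  classical
  refine ⟨(∏ m ∈ s, r m) * b.1, (∏ m ∈ s, r m) • f, ?_, fun m => ?_⟩
  · rw [map_mul, map_prod]
    refine IsUnit.mul ?_ (hunit _ b.2)
    exact Finset.prod_induction _ IsUnit (fun _ _ => IsUnit.mul) isUnit_one fun m _ => hr m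
  · rw [LinearMap.smul_apply, QCohLib.app_smul, mul_smul, ← sub_eq_zero, ← smul_sub]
    have hm : m ∈ Submodule.span Γ(X, U) (s : Set Γ(K, U)) := hs ▸ Submodule.mem_top
    induction hm using Submodule.span_induction with
    | mem w hw =>
      rw [← Finset.prod_erase_mul _ _ hw, mul_smul, hr0, smul_zero]
    | zero => simp
    | add a c _ _ ha hc =>
      rw [map_add, show g.app U (f a + f c) = g.app U (f a) + g.app U (f c) from map_add (g.app U).hom _ _, smul_add b.1]
      rw [add_sub_add_comm, smul_add, ha, hc, add_zero]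
    | smul d a _ ha =>
      rw [map_smul, QCohLib.app_smul, smul_comm b.1 d, ← smul_sub, smul_comm, ha, smul_zero]

/-- The identity comes from `ℋom(K, V)` at the points where `K` is projective. -/
theorem exists_preimage_id [IsLocallyNoetherian X] (hV : Coh.IsCoh V) (hK : Coh.IsCoh K) (g : V ⟶ K) [Epi g]
    (y : X) (hy : Module.Projective (X.presheaf.stalk y) (K.presheaf.stalk y)) :
    ∃ v, sm (mapR K g) y v = ger (homMod K K) y (U := ⊤) trivial (ofHom (𝟙 K)) := by
  obtain ⟨U, hU, hyU⟩ := QCohLib.exists_affine_nhd y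
  obtain ⟨b, f, hb, hf⟩ := exists_local_section hV hK g y hy hU hyU
  haveI : Coh.IsQCoh V := hV.1
  haveI : Coh.IsQCoh K := hK.1
  obtain ⟨h, hh⟩ := HomCohLib.exists_hom (N := V) hU f
  have e : (mapR K g).app U h = b • res (homMod K K) (le_top : U ≤ ⊤) (ofHom (𝟙 K)) := by
    refine (HomCohLib.lin_bijective (N := K) hU).1 (LinearMap.ext fun m => ?_)
    rw [map_smul, LinearMap.smul_apply, HomCohLib.lin_apply, HomCohLib.lin_apply, HomCohLib.happ_mapR, hh, hf,
      ← HomCohLib.toHom_app, HomCohLib.toHom_ofHom]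
    rfl
  obtain ⟨u, hu⟩ := hb
  refine ⟨(↑u⁻¹ : X.presheaf.stalk y) • ger (homMod K V) y hyU h, ?_⟩
  rw [map_smul, show sm (mapR K g) y (ger (homMod K V) y hyU h) = _ from ger_map (mapR K g) y hyU h, e, ger_smul, ← hu,
    smul_smul, Units.inv_mul, one_smul, ger_res]

end EssZeroLib
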