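import Groth.Agent.EssZeroLib.Shift
import Groth.Agent.FModLib.AdjExt
import Groth.Agent.ProjFormLib.Proj

/-!
# Essentially zero systems along closed immersions
-/

set_option autoImplicit false
set_option linter.unusedSectionVars false
set_option maxHeartbeats 1000000
set_option backward.isDefEq.respectTransparency false
set_option backward.isDefEq.respectTransparency.types false
universe u

open CategoryTheory CategoryTheory.Limits AlgebraicGeometry TopologicalSpace Opposite
open ProjFormLib (tF ger ger_res ger_smul ger_map exists_ger projApp)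
open CohCmpLib (stk)
open PnDualLib (sm ins ins_ger)
open KFlatLib (shTm puSec pb pf)

noncomputable section

namespace EssZeroLib

variable {X P : Scheme.{u}}

section Stalk

variable {T : P.Modules} {σ : T ⟶ Coh.structureModule P}

theorem sm_tensor_map {F F' : P.Modules} (g : F ⟶ F') (y : P) (t : stk T y) (v : stk F y) :
    sm ((tF T).map g) y (ins T F y t v) = ins T F' y t (sm g y v) := by
  obtain ⟨U, hU, t, rfl⟩ := exists_ger T y t
  obtain ⟨V, hV, v, rfl⟩ := exists_ger F y v
  have hy : y ∈ U ⊓ V := ⟨hU, hV⟩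
  rw [← ger_res T (inf_le_left : U ⊓ V ≤ U) y hy t, ← ger_res F (inf_le_right : U ⊓ V ≤ V) y hy v, ins_ger]
  refine (ger_map _ y hy _).trans ?_
  rw [KFlatLib.tensorBi_map₂_shTm, ← ins_ger]
  exact congrArg _ (ger_map g y hy _).symm

theorem exists_model_natural {y : P} {t : stk T y} {a : P.presheaf.stalk y} (h : GenVal σ y t a) {F F' : P.Modules}
    (g : F ⟶ F') : ∀ m : ℕ, ∃ (p : stk F y →ₗ[P.presheaf.stalk y] stk ((W T m).obj F) y)
      (p' : stk F' y →ₗ[P.presheaf.stalk y] stk ((W T m).obj F') y),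
      Function.Bijective p ∧ Function.Bijective p' ∧ ∀ v, sm ((W T m).map g) y (p v) = p' (sm g y v)
  | 0 => ⟨LinearMap.id, LinearMap.id, Function.bijective_id, Function.bijective_id, fun v => rfl⟩
  | m + 1 => by
    obtain ⟨p, p', hp, hp', hv⟩ := exists_model_natural h g m
    refine ⟨(ins T _ y t).comp p, (ins T _ y t).comp p', (PnDualLib.bijective_ins T _ y t h.1).comp hp,
      (PnDualLib.bijective_ins T _ y t h.1).comp hp', fun v => ?_⟩
    refine (sm_tensor_map ((W T m).map g) y t (p v)).trans ?_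
    rw [hv]; rfl

theorem inv_app_eq {A B : P.Modules} (φ : A ⟶ B) [IsIso φ] {U : P.Opens} {a : Γ(A, U)} {b : Γ(B, U)}
    (h : φ.app U a = b) : (inv φ).app U b = a := by
  rw [← h]
  exact congrArg (fun g : A ⟶ A => g.app U a) (IsIso.hom_inv_id φ)

theorem comp_mulApp_eq {Q : P.Modules} (φ : (tF Q).obj (Coh.structureModule P) ⟶ Q)
    (hφ : ∀ (U : P.Opens) (m : Γ(Q, U)) (r : Γ(P, U)), φ.app U (shTm m (show Γ(Coh.structureModule P, U) from r)) = r • m)
    (s : Q ⟶ Coh.structureModule P) : mulApp s (Coh.structureModule P) = φ ≫ s := by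
  refine KFlatLib.tens_hom_ext fun U a (r : Γ(Coh.structureModule P, U)) => ?_
  refine (mulApp_shTm s _ a r).trans (Eq.trans ?_ (congrArg (s.app U) (hφ U a r)).symm)
  refine Eq.trans ?_ (QCohLib.app_smul s U (show Γ(P, U) from r) a).symm
  exact mul_comm (show Γ(P, U) from s.app U a) (show Γ(P, U) from r)

theorem ger_inv_unit {Q : P.Modules} (φ : (tF Q).obj (Coh.structureModule P) ⟶ Q) [IsIso φ]
    (hφ : ∀ (U : P.Opens) (m : Γ(Q, U)) (r : Γ(P, U)), φ.app U (shTm m (show Γ(Coh.structureModule P, U) from r)) = r • m)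
    (y : P) (v : stk Q y) : sm (inv φ) y v = ins Q (Coh.structureModule P) y v (one P y) := by
  obtain ⟨U, hU, v, rfl⟩ := exists_ger Q y v
  have h1 : φ.app U (shTm v (show Γ(Coh.structureModule P, U) from (1 : Γ(P, U)))) = v :=
    (hφ U v 1).trans (one_smul _ v)
  refine (ger_map (inv φ) y hU v).trans ((congrArg (ger _ y hU) (inv_app_eq φ h1)).trans ?_)
  rw [← ins_ger]
  refine congrArg _ ?_
  exact (ger_fun_eq y hU (1 : Γ(P, U))).trans (by rw [map_one, one_smul])

theorem exists_rightUnit (Q : P.Modules) : ∃ u : Q ⟶ (tF Q).obj (Coh.structureModule P),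
    (∀ s : Q ⟶ Coh.structureModule P, u ≫ mulApp s (Coh.structureModule P) = s) ∧
    ∀ (y : P) (v : stk Q y), sm u y v = ins Q (Coh.structureModule P) y v (one P y) := by
  obtain ⟨φ, hφ, happ⟩ := SerreVanLib.exists_unit_iso Q
  exact ⟨@inv _ _ _ _ φ hφ, fun s => (IsIso.inv_comp_eq φ).2 (comp_mulApp_eq φ happ s),
    @ger_inv_unit _ _ φ hφ happ⟩

theorem exists_quot_section (hT : FlatMod.IsFinLocFree T)
    (hg : ∀ y : P, ∃ (t : stk T y) (a : P.presheaf.stalk y), GenVal σ y t a) {G : P.Modules}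
    (q : Coh.structureModule P ⟶ G) [Epi q] (e : ℕ) :
    ∃ v : (W T e).obj G ⟶ (tF ((W T e).obj (Coh.structureModule P))).obj G,
      v ≫ mulApp (tau σ e (Coh.structureModule P)) G = tau σ e G := by
  let Pe := (W T e).obj (Coh.structureModule P)
  obtain ⟨u, hu1, hu2⟩ := exists_rightUnit Pe
  let π := (W T e).map q
  haveI : Epi π := (shortExact_W hT (S := ShortComplex.mk (kernel.ι q) q (kernel.condition q))
    (ShortComplex.ShortExact.mk (ShortComplex.exact_kernel q)) e).epi_g
  let w₀ : Pe ⟶ (tF Pe).obj G := u ≫ (tF Pe).map q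
  have hw : w₀ ≫ mulApp (tau σ e (Coh.structureModule P)) G = π ≫ tau σ e G := by
    rw [tau_naturality, Category.assoc, mulApp_naturality, ← Category.assoc, hu1]
  have hk : kernel.ι π ≫ w₀ = 0 := eq_zero_of_stalks _ fun y w => by
    obtain ⟨t, a, hta⟩ := hg y
    obtain ⟨p, p', hp, hp', hv⟩ := exists_model_natural hta q e
    obtain ⟨z, hz⟩ := hp.2 (sm (kernel.ι π) y w)
    obtain ⟨d, rfl⟩ := (bijective_one y).2 z
    have h0 : d • sm q y (one P y) = 0 := hp'.1 (by
      rw [map_zero, ← map_smul (sm q y), ← hv, hz, ← sm_comp', kernel.condition, PnDualLib.sm_zero,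
        LinearMap.zero_apply])
    rw [sm_comp', ← hz, sm_comp', hu2, sm_tensor_map, map_smul, PnDualLib.ins_smul, ← map_smul, h0, map_zero]
  refine ⟨(Abelian.epiIsCokernelOfKernel _ (kernelIsKernel π)).desc (CokernelCofork.ofπ w₀ hk), ?_⟩
  rw [← cancel_epi π, ← hw, ← Category.assoc]
  exact congrArg (· ≫ mulApp (tau σ e (Coh.structureModule P)) G)
    ((Abelian.epiIsCokernelOfKernel _ (kernelIsKernel π)).fac (CokernelCofork.ofπ w₀ hk) WalkingParallelPair.one)

variable {k : Type u} [Field k] [P.Over (Spec (CommRingCat.of k))]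

/-- For a quotient of `O` the two forms of essential vanishing agree. -/
theorem tauZero_of_essZero (hT : FlatMod.IsFinLocFree T)
    (hg : ∀ y : P, ∃ (t : stk T y) (a : P.presheaf.stalk y), GenVal σ y t a) {G : P.Modules}
    (q : Coh.structureModule P ⟶ G) [Epi q] {c : ℕ} (h : EssZero σ k c G) : TauZero σ k c G := by
  obtain ⟨e, m₀, h⟩ := h
  obtain ⟨v, hv⟩ := exists_quot_section hT hg q e
  refine ⟨e, m₀, fun m hm j hj x => ?_⟩
  rw [← hv, Functor.map_comp, CurvLib.hMap_comp, h m hm j hj]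

end Stalk

section Push

variable (f : X ⟶ P) [IsClosedImmersion f] {T : P.Modules} (hT : FlatMod.IsFinLocFree T)
  {σ : T ⟶ Coh.structureModule P} {σ' : pb f T ⟶ Coh.structureModule X}
  (hσ : ∀ (U : P.Opens) (a : Γ(T, U)),
    (show Γ(X, f ⁻¹ᵁ U) from σ'.app (f ⁻¹ᵁ U) (puSec f a)) = f.app U (show Γ(P, U) from σ.app U a))

include hσ in
theorem projApp_mulApp (F : X.Modules) :
    projApp f T F ≫ (Scheme.Modules.pushforward f).map (mulApp σ' F) = mulApp σ (pf f F) := by
  refine KFlatLib.tens_hom_ext fun U a b => ?_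
  refine (congrArg (((Scheme.Modules.pushforward f).map (mulApp σ' F)).app U)
    (ProjFormLib.projApp_shTm f T F a b)).trans ?_
  refine (mulApp_shTm σ' F (puSec f a) (show Γ(F, f ⁻¹ᵁ U) from b)).trans (Eq.trans ?_ (mulApp_shTm σ _ a b).symm)
  rw [hσ]
  rfl

include hT hσ in
theorem exists_pushW : ∀ m : ℕ, ∃ Θ : ∀ F : X.Modules, (W T m).obj (pf f F) ≅ pf f ((W (pb f T) m).obj F),
    (∀ F : X.Modules, (Θ F).hom ≫ (Scheme.Modules.pushforward f).map (tau σ' m F) = tau σ m (pf f F)) ∧
    ∀ {F F' : X.Modules} (g : F ⟶ F'), (W T m).map ((Scheme.Modules.pushforward f).map g) ≫ (Θ F').hom =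
      (Θ F).hom ≫ (Scheme.Modules.pushforward f).map ((W (pb f T) m).map g)
  | 0 => ⟨fun F => Iso.refl _, fun F => by
      show 𝟙 _ ≫ (Scheme.Modules.pushforward f).map (𝟙 F) = 𝟙 (pf f F)
      rw [Category.id_comp]; exact (Scheme.Modules.pushforward f).map_id F, fun g => by
      show (Scheme.Modules.pushforward f).map g ≫ 𝟙 _ = 𝟙 _ ≫ (Scheme.Modules.pushforward f).map g
      rw [Category.id_comp, Category.comp_id]⟩
  | m + 1 => by
    obtain ⟨Θ, h1, h2⟩ := exists_pushW m
    haveI := fun F => ProjFormLib.isIso_projApp f hT F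
    refine ⟨fun F => (tF T).mapIso (Θ F) ≪≫ asIso (projApp f T ((W (pb f T) m).obj F)), fun F => ?_, fun {F F'} g => ?_⟩
    · show ((tF T).map (Θ F).hom ≫ projApp f T _) ≫
        (Scheme.Modules.pushforward f).map (mulApp σ' _ ≫ tau σ' m F) = mulApp σ _ ≫ tau σ m (pf f F)
      rw [Functor.map_comp, Category.assoc, reassoc_of% (projApp_mulApp f hσ), reassoc_of% (mulApp_naturality σ), h1]
    · show (tF T).map ((W T m).map ((Scheme.Modules.pushforward f).map g)) ≫ (tF T).map (Θ F').hom ≫ projApp f T _ =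
        ((tF T).map (Θ F).hom ≫ projApp f T _) ≫ (Scheme.Modules.pushforward f).map ((tF (pb f T)).map ((W (pb f T) m).map g))
      rw [← Functor.map_comp_assoc, h2, Functor.map_comp_assoc, Category.assoc]
      exact congrArg ((tF T).map (Θ F).hom ≫ ·) ((ProjFormLib.projNat f T).naturality ((W (pb f T) m).map g))

variable {k : Type u} [Field k] [P.Over (Spec (CommRingCat.of k))] [X.Over (Spec (CommRingCat.of k))]

theorem hMap_eq_zero_of_push {M M' : X.Modules} (g : M ⟶ M') (j : ℕ) (x : Coh.HH X M j)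
    (h : ∀ z, CurvLib.hMap (k := k) ((Scheme.Modules.pushforward f).map g) j z = 0) :
    CurvLib.hMap (k := k) g j x = 0 := by
  apply (FModLib.hPushHom_bijective f ((QCohLib.toAbF X).obj M') j).1
  refine (FModLib.hPushHom_natural f ((QCohLib.toAbF X).map g) j x).trans ?_
  refine Eq.trans ?_ (map_zero (FModLib.hPushHom f ((QCohLib.toAbF X).obj M') j)).symm
  exact h (FModLib.hPushHom f ((QCohLib.toAbF X).obj M) j x)

include hT hσ in
theorem tauZero_of_push {F : X.Modules} {c : ℕ} (h : TauZero σ k c (pf f F)) : TauZero σ' k c F := by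
  obtain ⟨e, m₀, h⟩ := h
  refine ⟨e, m₀, fun m hm j hj x => hMap_eq_zero_of_push f _ j x fun z => ?_⟩
  obtain ⟨Θe, he, -⟩ := exists_pushW f hT hσ e
  obtain ⟨Θm, -, hm'⟩ := exists_pushW f hT hσ m
  let g : (W T m).obj ((W T e).obj (pf f F)) ≅ pf f ((W (pb f T) m).obj ((W (pb f T) e).obj F)) :=
    (W T m).mapIso (Θe F) ≪≫ Θm _
  have hg : g.hom ≫ (Scheme.Modules.pushforward f).map ((W (pb f T) m).map (tau σ' e F)) =
      (W T m).map (tau σ e (pf f F)) ≫ (Θm F).hom := by
    rw [Iso.trans_hom, Functor.mapIso_hom, Category.assoc, ← hm', ← Functor.map_comp_assoc, he]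
  rw [show (Scheme.Modules.pushforward f).map ((W (pb f T) m).map (tau σ' e F)) =
    g.inv ≫ (W T m).map (tau σ e (pf f F)) ≫ (Θm F).hom from (g.eq_inv_comp).2 hg, CurvLib.hMap_comp, CurvLib.hMap_comp,
    h m hm j hj, map_zero]

end Push

end EssZeroLib
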