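import Groth.Agent.EssZeroLib.Pn
import Groth.Agent.EssZeroLib.Push
import Groth.Agent.EssZeroLib.Dim
import Groth.Agent.EssZeroLib.Chart
import Groth.Agent.CohCmpLib.RankOne

/-!
# The ideals of a section of an ample module form an essentially zero system

If `depth O_p + dim closure p > n` off the zeros of the section, the cohomology of the powers of its ideal is
essentially zero up to degree `n`.
-/

set_option autoImplicit false
set_option linter.unusedSectionVars false
set_option maxHeartbeats 1000000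
set_option backward.isDefEq.respectTransparency false
set_option backward.isDefEq.respectTransparency.types false
universe u

open CategoryTheory CategoryTheory.Limits AlgebraicGeometry TopologicalSpace Opposite
open ProjFormLib (tF ger ger_res ger_smul ger_map exists_ger)
open CohCmpLib (stk)
open PnDualLib (sm)
open KFlatLib (puSec pb pf)

noncomputable section

namespace EssZeroLib

variable {k : Type u} [Field k] {N : ℕ} {X : Scheme.{u}} (i : X ⟶ CohB1.ProjSpace N k) [IsClosedImmersion i]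

local notation "ℙk" => CohB1.ProjSpace N k
local notation "Ok" => Twist.twistProjSpace N k

theorem epi_unitToPush : Epi (ClSub.unitToPush i) :=
  QCohLib.epi_of_surjective_on_affines _ fun O t z hz => by
    obtain ⟨W, hW, hzW, hWO⟩ := exists_isAffineOpen_mem_and_subset (U := O) (x := z) hz
    obtain ⟨r, hr⟩ := Scheme.Hom.app_surjective i W hW
      (((Scheme.Modules.pushforward i).obj (Coh.structureModule X)).presheaf.map (homOfLE hWO).op t)
    exact ⟨W, hWO, hzW, r, hr⟩

/-- A map out of a negative twist lifts from the subscheme once the twist is large. -/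
theorem exists_lift_section :
    ∃ q₀ : ℕ, ∀ q : ℕ, q₀ ≤ q → ∀ σ' : pb i (Ok (-(q : ℤ))) ⟶ Coh.structureModule X,
      ∃ σ : Ok (-(q : ℤ)) ⟶ Coh.structureModule (ℙk), ∀ (U : (ℙk).Opens) (a : Γ(Ok (-(q : ℤ)), U)),
        (show Γ(X, i ⁻¹ᵁ U) from σ'.app (i ⁻¹ᵁ U) (puSec i a)) = i.app U (show Γ(ℙk, U) from σ.app U a) := by
  haveI := LefFlatLib.isLocallyNoetherian_projSpace N k
  haveI := epi_unitToPush i
  haveI : IsLocallyNoetherian X := LocallyOfFiniteType.isLocallyNoetherian i
  have hpush : Coh.IsCoh ((Coh.push i).obj (Coh.structureModule X)) :=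
    PnDualLib.isCoh_push' i (DevissLib.isCoh_structureModule X)
  let S : ShortComplex (ℙk).Modules :=
    ShortComplex.mk (kernel.ι (ClSub.unitToPush i)) (ClSub.unitToPush i) (kernel.condition _)
  have hS : S.ShortExact := ShortComplex.ShortExact.mk (ShortComplex.exact_kernel _)
  obtain ⟨d₀, hd⟩ := PnCohLib.exists_vanishing_twist k (kernel (ClSub.unitToPush i))
    (QCohLib.isCoh_kernel _ (DevissLib.isCoh_structureModule _) hpush.1)
  refine ⟨d₀.toNat, fun q hq σ' => ?_⟩
  have hvan : Subsingleton (Coh.HH (ℙk) ((PnDualLib.tw' k N (q : ℤ)).obj S.X₁) 1) :=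
    SerreVanLib.subsingleton_HH_of_iso (HilbPolyLib.swapIso _ _) 1
      (hd _ (le_trans d₀.self_le_toNat (by exact_mod_cast hq)) 1 Nat.one_pos)
  obtain ⟨σ, hσ⟩ := PnDualLib.exists_lift_twist k N _ hS hvan
    ((Scheme.Modules.pullbackPushforwardAdjunction i).unit.app _ ≫ (Scheme.Modules.pushforward i).map σ')
  refine ⟨σ, fun U a => ?_⟩
  exact (congrArg (fun z : Ok (-(q : ℤ)) ⟶ _ => z.app U a) hσ).symm

/-- Where the lift is invertible so is the restriction. -/
theorem inv_of_inv_push {q : ℕ} {σ : Ok (-(q : ℤ)) ⟶ Coh.structureModule (ℙk)}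
    {σ' : pb i (Ok (-(q : ℤ))) ⟶ Coh.structureModule X}
    (hσ : ∀ (U : (ℙk).Opens) (a : Γ(Ok (-(q : ℤ)), U)),
      (show Γ(X, i ⁻¹ᵁ U) from σ'.app (i ⁻¹ᵁ U) (puSec i a)) = i.app U (show Γ(ℙk, U) from σ.app U a))
    {z : X} (h : Inv σ (i z)) : Inv σ' z := by
  obtain ⟨U, g, hU, hg⟩ := TwistLib.exists_genOn (PicPnLib.twist_inv N k (-(q : ℤ))) (i z)
  let c : Γ(ℙk, U) := show Γ(ℙk, U) from σ.app U g
  have hu : IsUnit ((ℙk).presheaf.germ U (i z) hU c) :=
    h (ger _ (i z) hU g) _ ⟨hg.genAt hU, (ger_map σ (i z) hU g).trans (ger_fun_eq (i z) hU c)⟩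
  refine inv_of_genVal (t := ger (pb i (Ok (-(q : ℤ)))) z (U := i ⁻¹ᵁ U) hU (puSec i g))
    (a := X.presheaf.germ (i ⁻¹ᵁ U) z hU (i.app U c)) ⟨(AmpleDevLib.puSec_genOn i hg).genAt hU, ?_⟩ ?_
  · refine (ger_map σ' z _ _).trans ((ger_fun_eq z _ _).trans (congrArg (· • one X z) ?_))
    exact congrArg (X.presheaf.germ (i ⁻¹ᵁ U) z hU) (hσ U g)
  · rw [← Scheme.Hom.germ_stalkMap_apply]
    exact hu.map _

variable (k) [X.Over (Spec (CommRingCat.of k))] [IsProper (X ↘ Spec (CommRingCat.of k))]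

/-- Projective dimension where the lift is invertible. -/
theorem essZero_push {q : ℕ} (hq : 1 ≤ q) {σ : Ok (-(q : ℤ)) ⟶ Coh.structureModule (ℙk)} (n : ℕ) (G : X.Modules)
    (hG : Coh.IsCoh G)
    (h : ∀ z : X, Inv σ (i z) → (n : WithBot ℕ∞) <
      (LocCoh.depth (X.presheaf.stalk z) (G.presheaf.stalk z) : WithBot ℕ∞) + topologicalKrullDim (closure ({z} : Set X))) :
    EssZero σ k (n + 1) ((Coh.push i).obj G) := by
  have hσ := hasCharts_of_invertible (PicPnLib.twist_inv N k _) σ
  have hc := PnDualLib.isCoh_push' i hG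
  have hout : ∀ y : ℙk, y ∉ Set.range i → Subsingleton (((Coh.push i).obj G).presheaf.stalk y) := fun y hy =>
    not_not.mp fun hc => hy (DevissLib.support_push_subset i G hc)
  by_cases hN : N ≤ n
  · refine essZero_of_support hσ (n + 1) _ hc fun y hy => ?_
    by_cases hr : y ∈ Set.range i
    · obtain ⟨z, rfl⟩ := hr
      exact (pdlt_push i G hG z n 0 (by omega) (h z hy)).2 hN
    · exact hout y hr
  · refine essZero_of_pdlt hq hσ (N - n - 1) (n + 1) (by omega) _ hc fun y hy => ?_
    by_cases hr : y ∈ Set.range i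
    · obtain ⟨z, rfl⟩ := hr
      exact (pdlt_push i G hG z n (N - n - 1) (by omega) (h z hy)).1
    · haveI := hout y hr
      haveI : Module.Projective ((ℙk).presheaf.stalk y) (((Coh.push i).obj G).presheaf.stalk y) :=
        Module.Projective.of_free
      exact (CommAlgDim.pdlt_one_iff.2 inferInstance).mono (by omega)

omit [IsClosedImmersion i]

/-- The powers of the ideal of a section form an essentially zero system. -/
theorem exists_zeroStep_section {L : X.Modules} (hL : CohB1.IsAmple L) (s : Coh.structureModule X ⟶ L) (n : ℕ)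
    (hd : ∀ p : X, p ∉ ((PicF2.zeroScheme L s).support : Set X) → (n : WithBot ℕ∞) <
      (LocCoh.depth (X.presheaf.stalk p) (X.presheaf.stalk p) : WithBot ℕ∞) +
        topologicalKrullDim ↥(closure ({p} : Set X))) (p : ℕ) :
    ∃ r : ℕ, p ≤ r ∧ ZeroStep k n ((PicF2.zeroScheme L s) ^ (r + 1)) ((PicF2.zeroScheme L s) ^ (p + 1)) := by
  haveI := CurvLib.isNoetherian k (X := X)
  let I := PicF2.zeroScheme L s
  obtain ⟨M, σ₁, hM, hLM, hA⟩ := exists_adapted_transpose L hL.1 s
  obtain ⟨N, d, i, hd0, hi, -, ⟨e₁⟩⟩ := PnDualLib.exists_closedImm_pow k hL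
  haveI := hi
  obtain ⟨q₀, hlift⟩ := exists_lift_section i
  let q := q₀ + 1
  let D := d * q
  obtain ⟨eM⟩ := PnDualLib.nonempty_inv_pow i hLM e₁ q
  obtain ⟨eW⟩ := nonempty_W_pow M D
  let ε : pb i (Twist.twistProjSpace N k (-(q : ℤ))) ≅ (W M D).obj (Coh.structureModule X) := eM.symm ≪≫ eW.symm
  let σ' := ε.hom ≫ tau σ₁ D (Coh.structureModule X)
  have hA' : Adapted σ' (I ^ D) := adapted_iso (adapted_tau hA D) ε
  obtain ⟨σ, hσ⟩ := hlift q (Nat.le_succ q₀) σ'
  have hDpos : D ≠ 0 := Nat.mul_ne_zero hd0.ne' (Nat.succ_ne_zero q₀)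
  have hess : EssZero σ k (n + 1) ((Coh.push i).obj (Coh.structureModule X)) := by
    refine essZero_push k i (Nat.le_add_left 1 q₀) n _ (DevissLib.isCoh_structureModule X) fun z hz => ?_
    obtain ⟨e⟩ := AVAmpleLib.nonempty_stalk_structureModule X z
    refine lt_of_lt_of_eq (hd z fun hmem => notMem_support hA' (inv_of_inv_push i hσ hz) ?_)
      (congrArg (fun t : ℕ∞ => (t : WithBot ℕ∞) + topologicalKrullDim ↥(closure ({z} : Set X)))
        (CommAlgDim.depth_congr e))
    rw [Scheme.IdealSheafData.support_pow (hn := hDpos)]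
    exact hmem
  haveI := epi_unitToPush i
  have hT := AmpleDevLib.isFinLocFree_of_isInvertible (PicPnLib.twist_inv N k (-(q : ℤ)))
  have htau : TauZero σ' k (n + 1) (Coh.structureModule X) :=
    tauZero_of_push i hT hσ (tauZero_of_essZero hT
      (exists_genVals (hasCharts_of_invertible (PicPnLib.twist_inv N k _) σ)) (ClSub.unitToPush i) hess)
  obtain ⟨r, hr, hz⟩ := exists_zeroStep k hA' htau (p + 1)
  rw [← pow_mul, ← pow_mul] at hz
  have h1 : p + 1 ≤ D * (p + 1) := Nat.le_mul_of_pos_left _ (Nat.pos_of_ne_zero hDpos)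
  have h2 : p + 1 ≤ D * r := hr.trans (Nat.le_mul_of_pos_left _ (Nat.pos_of_ne_zero hDpos))
  refine ⟨D * r - 1, by omega, ?_⟩
  rw [show D * r - 1 + 1 = D * r by omega]
  exact hz.mono le_rfl (antitone_nat_of_succ_le (f := fun j => I ^ j)
    (fun j => by rw [pow_succ]; exact mul_le_of_le_one_right' le_top) h1)

end EssZeroLib
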