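import Groth.Agent.ExtShLib.DivExt
import Groth.Agent.PnDualLib.Hom
import Groth.Agent.PnDualLib.Master

/-!
# Iterated multiplication by a section of an invertible module

For `σ : T ⟶ O` the natural maps `T^{⊗ m} ⊗ F ⟶ F`.
-/

set_option autoImplicit false
set_option linter.unusedSectionVars false
set_option maxHeartbeats 1000000
set_option backward.isDefEq.respectTransparency false
set_option backward.isDefEq.respectTransparency.types false
universe u

open CategoryTheory CategoryTheory.Limits AlgebraicGeometry TopologicalSpace Opposite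
open KFlatLib (shTm tens tensorBi_map₁_shTm tensorBi_map₂_shTm)
open ProjFormLib (tF ger ger_res ger_smul ger_map exists_ger)
open CohCmpLib (stk)
open PnDualLib (sm ins ins_ger)
open AmpleLib (res)

noncomputable section

namespace EssZeroLib

variable {X : Scheme.{u}} {T : X.Modules} (σ : T ⟶ Coh.structureModule X)

/-- `T ⊗ F ⟶ F`, `a ⊗ b ↦ σ(a) • b`. -/
def mulApp (F : X.Modules) : (tF T).obj F ⟶ F :=
  ((DCoh.tensorBi (X := X)).map σ).app F ≫ ExtShLib.uL F

theorem mulApp_shTm (F : X.Modules) {U : X.Opens} (a : Γ(T, U)) (b : Γ(F, U)) :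
    (mulApp σ F).app U (shTm a b) = (show Γ(X, U) from σ.app U a) • b :=
  (congrArg ((ExtShLib.uL F).app U) (tensorBi_map₁_shTm σ F a b)).trans (ExtShLib.unitLeft_shTm F _ b)

theorem mulApp_naturality {F F' : X.Modules} (g : F ⟶ F') :
    (tF T).map g ≫ mulApp σ F' = mulApp σ F ≫ g := by
  refine KFlatLib.tens_hom_ext fun U a b => ?_
  refine (congrArg ((mulApp σ F').app U) (tensorBi_map₂_shTm T g a b)).trans ?_
  refine (mulApp_shTm σ F' a _).trans (Eq.symm ?_)
  refine (congrArg (g.app U) (mulApp_shTm σ F a b)).trans ?_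
  exact QCohLib.app_smul g _ _ b

/-- The iterated twists. -/
def W (T : X.Modules) : ℕ → X.Modules ⥤ X.Modules
  | 0 => 𝟭 _
  | m + 1 => W T m ⋙ tF T

theorem W_succ_obj (m : ℕ) (F : X.Modules) : (W T (m + 1)).obj F = (tF T).obj ((W T m).obj F) := rfl

/-- The iterated multiplication. -/
def tau : ∀ (m : ℕ) (F : X.Modules), (W T m).obj F ⟶ F
  | 0, F => 𝟙 F
  | m + 1, F => mulApp σ ((W T m).obj F) ≫ tau m F

theorem tau_naturality : ∀ (m : ℕ) {F F' : X.Modules} (g : F ⟶ F'),
    (W T m).map g ≫ tau σ m F' = tau σ m F ≫ g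
  | 0, _, _, g => by simp [tau, W]
  | m + 1, F, F', g => by
    show (tF T).map ((W T m).map g) ≫ mulApp σ _ ≫ tau σ m F' = (mulApp σ _ ≫ tau σ m F) ≫ g
    rw [reassoc_of% (mulApp_naturality σ ((W T m).map g)), tau_naturality m g, Category.assoc]

theorem W_add (a : ℕ) : ∀ (b : ℕ) (F : X.Modules), (W T b).obj ((W T a).obj F) = (W T (b + a)).obj F
  | 0, F => by rw [Nat.zero_add]; rfl
  | b + 1, F => by
    rw [Nat.succ_add]
    show (tF T).obj ((W T b).obj ((W T a).obj F)) = (tF T).obj ((W T (b + a)).obj F)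
    rw [W_add a b F]

theorem tau_add (a : ℕ) : ∀ (b : ℕ) (F : X.Modules),
    tau σ b ((W T a).obj F) ≫ tau σ a F = eqToHom (W_add a b F) ≫ tau σ (b + a) F
  | 0, F => by
    have key : ∀ (n : ℕ) (_ : n = a) (h : (W T a).obj F = (W T n).obj F), tau σ a F = eqToHom h ≫ tau σ n F := by
      rintro n rfl h
      simp
    exact (Category.id_comp _).trans (key (0 + a) (Nat.zero_add a) (W_add a 0 F))
  | b + 1, F => by
    have key : ∀ (n : ℕ) (_ : n = b + a + 1) (h : (W T (b + 1)).obj ((W T a).obj F) = (W T n).obj F),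
        tau σ (b + 1) ((W T a).obj F) ≫ tau σ a F = eqToHom h ≫ tau σ n F := by
      rintro n rfl h
      show (mulApp σ _ ≫ tau σ b _) ≫ tau σ a F = eqToHom h ≫ mulApp σ _ ≫ tau σ (b + a) F
      rw [Category.assoc, tau_add a b F]
      have e : ∀ {A B : X.Modules} (q : A = B) (h' : (tF T).obj A = (tF T).obj B),
          mulApp σ A ≫ eqToHom q = eqToHom h' ≫ mulApp σ B := by
        rintro A _ rfl h'
        simp
      rw [reassoc_of% (e (W_add a b F) h)]
    exact key (b + 1 + a) (Nat.succ_add b a) (W_add a (b + 1) F)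

/-- `Wₘ τₑ` followed by `τₘ` is `τ_{m+e}`. -/
theorem map_tau_comp (e m : ℕ) (F : X.Modules) :
    (W T m).map (tau σ e F) ≫ tau σ m F = eqToHom (W_add e m F) ≫ tau σ (m + e) F := by
  rw [tau_naturality, tau_add]

section Stalk

/-- The germ of `1`. -/
def one (X : Scheme.{u}) (y : X) : stk (Coh.structureModule X) y :=
  ger (Coh.structureModule X) y (U := ⊤) trivial (show Γ(X, ⊤) from 1)

theorem ger_fun_eq (y : X) {U : X.Opens} (hy : y ∈ U) (r : Γ(X, U)) :
    ger (Coh.structureModule X) y hy (show Γ(Coh.structureModule X, U) from r) =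
      X.presheaf.germ U y hy r • one X y := by
  have h1 : one X y = ger (Coh.structureModule X) y hy (show Γ(X, U) from 1) := by
    have e : ProjFormLib.res (Coh.structureModule X) (le_top : U ≤ ⊤) (show Γ(Coh.structureModule X, ⊤) from (show Γ(X, ⊤) from 1)) =
        (show Γ(Coh.structureModule X, U) from (show Γ(X, U) from 1)) :=
      map_one (X.presheaf.map (homOfLE (le_top : U ≤ ⊤)).op).hom
    exact ((ger_res (Coh.structureModule X) (le_top : U ≤ ⊤) y hy _).symm).trans (congrArg (ger (Coh.structureModule X) y hy) e)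
  rw [h1, ← ger_smul]
  exact congrArg (ger (Coh.structureModule X) y hy) (mul_one r).symm

theorem bijective_one (y : X) : Function.Bijective fun c : X.presheaf.stalk y => c • one X y :=
  (AmpleLib.one_genOn (X := X) ⊤).genAt trivial

/-- `t` generates `T` at `y` and `σ` takes it to `a`. -/
def GenVal (y : X) (t : stk T y) (a : X.presheaf.stalk y) : Prop :=
  Function.Bijective (fun c : X.presheaf.stalk y => c • t) ∧ sm σ y t = a • one X y

variable {σ}

theorem sm_mulApp_ins {y : X} {t : stk T y} {a : X.presheaf.stalk y} (h : sm σ y t = a • one X y)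
    (F : X.Modules) (v : stk F y) : sm (mulApp σ F) y (ins T F y t v) = a • v := by
  obtain ⟨U, hU, t, rfl⟩ := exists_ger T y t
  obtain ⟨V, hV, v, rfl⟩ := exists_ger F y v
  have hy : y ∈ U ⊓ V := ⟨hU, hV⟩
  rw [← ger_res T (inf_le_left : U ⊓ V ≤ U) y hy t] at h ⊢
  rw [← ger_res F (inf_le_right : U ⊓ V ≤ V) y hy v, ins_ger]
  refine (ger_map (mulApp σ F) y hy _).trans ?_
  rw [mulApp_shTm, ger_smul]
  refine congrArg (· • ger F y hy _) ((bijective_one y).1 ?_)
  refine (ger_fun_eq y hy _).symm.trans ?_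
  exact (ger_map σ y hy _).symm.trans h

theorem sm_comp' {A B C : X.Modules} (g : A ⟶ B) (g' : B ⟶ C) (y : X) (v : stk A y) :
    sm (g ≫ g') y v = sm g' y (sm g y v) := by
  rw [PnDualLib.sm_comp]; rfl

/-- The stalks of the iterated twists, compatibly with the multiplications. -/
theorem exists_model {y : X} {t : stk T y} {a : X.presheaf.stalk y} (h : GenVal σ y t a) (F : X.Modules) :
    ∀ m : ℕ, ∃ p : stk F y →ₗ[X.presheaf.stalk y] stk ((W T m).obj F) y, Function.Bijective p ∧
      ∀ v, sm (tau σ m F) y (p v) = a ^ m • v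
  | 0 => ⟨LinearMap.id, Function.bijective_id, fun v => by
      rw [pow_zero, one_smul]
      show ((DerSch.stalkFunctor X y).map (𝟙 F)).hom v = v
      rw [(DerSch.stalkFunctor X y).map_id]; rfl⟩
  | m + 1 => by
    obtain ⟨p, hp, hv⟩ := exists_model h F m
    refine ⟨(ins T ((W T m).obj F) y t).comp p,
      (PnDualLib.bijective_ins T _ y t h.1).comp hp, fun v => ?_⟩
    show sm (mulApp σ _ ≫ tau σ m F) y (ins T _ y t (p v)) = _
    rw [sm_comp', sm_mulApp_ins h.2, map_smul, hv, smul_smul, ← pow_succ']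

theorem injective_tau {y : X} {t : stk T y} {a : X.presheaf.stalk y} (h : GenVal σ y t a) (ha : IsUnit a)
    (F : X.Modules) (m : ℕ) : Function.Bijective (sm (tau σ m F) y) := by
  obtain ⟨p, hp, hv⟩ := exists_model h F m
  refine (Function.Bijective.of_comp_iff (sm (tau σ m F) y) hp).1 ?_
  rw [show (sm (tau σ m F) y ∘ p) = fun v => a ^ m • v from funext hv]
  exact (ha.pow m).smul_bijective

/-- The generator of an iterated twist of `O`. -/
theorem exists_genVal_pow {y : X} {t : stk T y} {a : X.presheaf.stalk y} (h : GenVal σ y t a) (m : ℕ) :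
    ∃ t', GenVal (tau σ m (Coh.structureModule X)) y t' (a ^ m) := by
  obtain ⟨p, hp, hv⟩ := exists_model h (Coh.structureModule X) m
  refine ⟨p (one X y), ?_, hv _⟩
  have e : (fun c : X.presheaf.stalk y => c • p (one X y)) = p ∘ fun c => c • one X y :=
    funext fun c => (map_smul p c _).symm
  rw [e]
  exact hp.comp (bijective_one y)

end Stalk

end EssZeroLib
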