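import Groth.Agent.EssZeroLib.Shift
import Groth.Agent.EssZeroLib.Lift
import Groth.Agent.LefFlatLib.Neg
import Groth.Agent.PnDualLib.Ext

/-!
# Essentially zero negative twists on projective space

`σ : O(-q) ⟶ O`, `q ≥ 1`; if a coherent module has projective dimension `≤ r` where `σ` is invertible, the
cohomology of its negative twists is essentially zero in the degrees `< N - r`.
-/

set_option autoImplicit false
set_option linter.unusedSectionVars false
set_option maxHeartbeats 1000000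
set_option backward.isDefEq.respectTransparency false
set_option backward.isDefEq.respectTransparency.types false
universe u

open CategoryTheory CategoryTheory.Limits AlgebraicGeometry TopologicalSpace Opposite
open ProjFormLib (tF ger ger_res ger_smul ger_map exists_ger)
open CohCmpLib (stk homMod)
open PnDualLib (sm)
open HomCohLib (mapR ofHom)
open KFlatLib (shTm)

noncomputable section

namespace EssZeroLib

variable (N : ℕ) (k : Type u) [Field k]

local notation "ℙk" => CohB1.ProjSpace N k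
local notation "Ok" => Twist.twistProjSpace N k

variable {N k} {q : ℕ} {σ : Twist.twistProjSpace N k (-(q : ℤ)) ⟶ Coh.structureModule (CohB1.ProjSpace N k)}

theorem nonempty_W_twist (F : (ℙk).Modules) : ∀ m : ℕ,
    Nonempty ((W (Ok (-(q : ℤ))) m).obj F ≅ (tF (Ok (-((q * m : ℕ) : ℤ)))).obj F)
  | 0 => by
    obtain ⟨e⟩ := PicPnLib.twist_zero N k
    exact ⟨(HilbPolyLib.unitLeft F).symm ≪≫ HilbPolyLib.congrLeft e.symm F ≪≫ eqToIso (by simp [tF]; rfl)⟩
  | m + 1 => by
    obtain ⟨e⟩ := nonempty_W_twist F m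
    obtain ⟨a⟩ := PicPnLib.twist_add N k (-(q : ℤ)) (-((q * m : ℕ) : ℤ))
    exact ⟨(tF (Ok (-(q : ℤ)))).mapIso e ≪≫ (HilbPolyLib.assocIso _ _ _).symm ≪≫
      HilbPolyLib.congrLeft (a ≪≫ eqToIso (by congr 1; push_cast; ring)) F⟩

theorem exists_W_vanishing (hq : 1 ≤ q) {c : ℕ} {V : (ℙk).Modules} (hV : LefFlatLib.Van N k c V) :
    ∃ m₀, ∀ m, m₀ ≤ m → ∀ j, j < c → Subsingleton (Coh.HH (ℙk) ((W (Ok (-(q : ℤ))) m).obj V) j) := by
  obtain ⟨m₀, h⟩ := hV.out
  refine ⟨m₀, fun m hm j hj => ?_⟩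
  obtain ⟨e⟩ := nonempty_W_twist (q := q) V m
  exact SerreVanLib.subsingleton_HH_of_iso e j (h (q * m) (le_trans hm (Nat.le_mul_of_pos_left m hq)) j hj)

theorem isInv_tw : PicF.IsInvertible (Ok (-(q : ℤ))) := PicPnLib.twist_inv N k _

theorem exists_genVals (hσ : HasCharts σ) (y : ℙk) :
    ∃ (t : stk (Ok (-(q : ℤ))) y) (a : (ℙk).presheaf.stalk y), GenVal σ y t a := by
  obtain ⟨V, f, hy, ht⟩ := hσ y
  obtain ⟨t, ht⟩ := ht y hy
  exact ⟨t, _, ht⟩

theorem tau_eq_zero_of_le {F : (ℙk).Modules} {c c' : ℕ} (h : c ≤ c') (h0 : tau σ c F = 0) :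
    tau σ c' F = 0 := by
  obtain ⟨d, rfl⟩ := Nat.exists_eq_add_of_le' h
  have e := tau_add σ c d F
  rw [h0, comp_zero] at e
  rw [← cancel_epi (eqToHom (W_add c d F)), ← e, comp_zero]

/-- The multiplication by a large power lifts through an epimorphism which splits where `σ` is invertible. -/
theorem exists_lift (hq : 1 ≤ q) (hσ : HasCharts σ) {V K : (ℙk).Modules} (hV : Coh.IsCoh V) (hK : Coh.IsCoh K)
    (g : V ⟶ K) [Epi g]
    (hproj : ∀ y, Inv σ y → Module.Projective ((ℙk).presheaf.stalk y) (K.presheaf.stalk y)) :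
    ∃ (e : ℕ) (a : (tF ((W (Ok (-(q : ℤ))) e).obj (Coh.structureModule (ℙk)))).obj K ⟶ V),
      a ≫ g = mulApp (tau σ e (Coh.structureModule (ℙk))) K := by
  haveI := LefFlatLib.compactSpace_projSpace N k
  haveI := LefFlatLib.isLocallyNoetherian_projSpace N k
  haveI : Coh.IsQCoh V := hV.1
  haveI : Coh.IsQCoh K := hK.1
  let O := Coh.structureModule (ℙk)
  let H₁ := homMod K V
  let H₂ := homMod K K
  let G : H₁ ⟶ H₂ := mapR K g
  have hH₁ : Coh.IsCoh H₁ := HomCohLib.isCoh_homMod hK hV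
  have hH₂ : Coh.IsCoh H₂ := HomCohLib.isCoh_homMod hK hK
  let i : O ⟶ H₂ := (KFlatLib.unitSecEquiv H₂).symm (ofHom (𝟙 K))
  have hi : ∀ (U : (ℙk).Opens) (r : Γ(ℙk, U)),
      i.app U r = r • ProjFormLib.res H₂ (le_top : U ≤ ⊤) (ofHom (𝟙 K)) := fun U r => rfl
  -- the subsheaf generated by the identity modulo the composites
  let Q : (ℙk).Modules := Abelian.image (i ≫ cokernel.π G)
  have hC : Coh.IsCoh (cokernel G) := QCohLib.isCoh_cokernel G hH₁.1 hH₂
  haveI := hC.1
  haveI : Coh.IsQCoh O := QCohLib.isQCoh_unit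
  have hQ : Coh.IsCoh Q := QCohLib.isCoh_kernel (cokernel.π (i ≫ cokernel.π G)) hC (QCohLib.isCoh_cokernel (i ≫ cokernel.π G) QCohLib.isQCoh_unit hC).1
  haveI := hQ.1
  have hQ0 : ∀ y, Inv σ y → Subsingleton (Q.presheaf.stalk y) := by
    intro y hy
    obtain ⟨v, hv⟩ := exists_preimage_id hV hK g y (hproj y hy)
    let p : O ⟶ Q := Abelian.factorThruImage (i ≫ cokernel.π G)
    let ι : Q ⟶ cokernel G := Abelian.image.ι (i ≫ cokernel.π G)
    have hz : ∀ w : stk O y, sm (i ≫ cokernel.π G) y w = 0 := fun w => by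
      obtain ⟨c, rfl⟩ := (bijective_one y).2 w
      rw [map_smul, sm_comp', one,
        show sm i y (ger O y (U := ⊤) trivial _) = ger H₂ y (U := ⊤) trivial (i.app ⊤ (show Γ(ℙk, ⊤) from 1)) from
          ger_map i y _ _,
        hi, one_smul, ger_res, ← hv, ← sm_comp', cokernel.condition, PnDualLib.sm_zero,
        LinearMap.zero_apply, smul_zero]
    have hinj : Function.Injective (sm ι y) := (ModuleCat.mono_iff_injective _).1
      (inferInstanceAs (Mono ((DerSch.stalkFunctor (ℙk) y).map ι)))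
    have hsur : Function.Surjective (sm p y) := (ModuleCat.epi_iff_surjective _).1
      (inferInstanceAs (Epi ((DerSch.stalkFunctor (ℙk) y).map p)))
    refine subsingleton_of_forall_eq (0 : stk Q y) fun w => ?_
    obtain ⟨w, rfl⟩ := hsur w
    refine hinj ?_
    rw [map_zero, ← sm_comp', show p ≫ ι = i ≫ cokernel.π G from Abelian.image.fac _, hz]
  obtain ⟨c, hc⟩ := tau_eq_zero hσ Q hQ.2 hQ0
  -- the twists of the kernel of `G` onto its image
  let Im : (ℙk).Modules := kernel (cokernel.π G)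
  let G' : H₁ ⟶ Im := kernel.lift _ G (cokernel.condition G)
  haveI : Epi G' := inferInstanceAs (Epi (Abelian.factorThruImage G))
  let S : ShortComplex (ℙk).Modules := ShortComplex.mk (kernel.ι G') G' (kernel.condition G')
  have hS : S.ShortExact := ShortComplex.ShortExact.mk (ShortComplex.exact_kernel G')
  have hR : Coh.IsCoh (kernel G') :=
    QCohLib.isCoh_kernel G' hH₁ (QCohLib.isCoh_kernel (cokernel.π G) hH₂ hC.1).1
  obtain ⟨d₀, hd⟩ := PnCohLib.exists_vanishing_twist k (kernel G') hR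
  let e := max c d₀.toNat
  have he0 : tau σ e Q = 0 := tau_eq_zero_of_le (le_max_left _ _) hc
  let P := (W (Ok (-(q : ℤ))) e).obj O
  have hP0 : (tau σ e O ≫ i) ≫ cokernel.π G = 0 := by
    rw [Category.assoc, ← Abelian.image.fac (i ≫ cokernel.π G), ← Category.assoc, ← tau_naturality, he0, comp_zero,
      zero_comp]
  obtain ⟨w₁⟩ := nonempty_W_twist (q := q) O e
  let w : P ≅ Ok (-((q * e : ℕ) : ℤ)) := w₁ ≪≫ PicPnLib.unitRight _
  have hvan : Subsingleton (Coh.HH (ℙk) ((PnDualLib.tw' k N ((q * e : ℕ) : ℤ)).obj S.X₁) 1) :=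
    SerreVanLib.subsingleton_HH_of_iso (HilbPolyLib.swapIso _ _) 1
      (hd _ (le_trans d₀.self_le_toNat (by
        exact_mod_cast le_trans (le_max_right c d₀.toNat) (Nat.le_mul_of_pos_left e hq))) 1 Nat.one_pos)
  obtain ⟨ψ', hψ'⟩ := PnDualLib.exists_lift_twist k N _ hS hvan (w.inv ≫ kernel.lift _ _ hP0)
  let ψ : P ⟶ H₁ := w.hom ≫ ψ'
  have hψ : ψ ≫ G = tau σ e O ≫ i := by
    rw [show G = G' ≫ kernel.ι _ from (kernel.lift_ι _ _ _).symm, Category.assoc, ← Category.assoc ψ',
      show ψ' ≫ G' = _ from hψ', Category.assoc, Iso.hom_inv_id_assoc, kernel.lift_ι]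
  obtain ⟨a, ha⟩ := GrTildeLib.exists_tens_hom (M := P) (N := K) (P := V)
    (fun U p m => CohCmpLib.happ (ψ.app U p) m)
    (fun U p p' m => by rw [show ψ.app U (p + p') = ψ.app U p + ψ.app U p' from map_add (ψ.app U).hom p p',
      HomCohLib.happ_add_left])
    (fun U p m m' => HomCohLib.happ_add_right _ m m')
    (fun U r p m => by rw [QCohLib.app_smul, HomCohLib.happ_smul_left])
    (fun U r p m => HomCohLib.happ_smul_right _ r m)
    (fun U U' h p m => (HomCohLib.happ_res h _ m).symm.trans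
      (congrArg (fun z => CohCmpLib.happ z _) (QCohLib.app_map ψ (homOfLE h) p).symm))
  refine ⟨e, a, KFlatLib.tens_hom_ext fun U p m => ?_⟩
  refine Eq.trans ?_ (mulApp_shTm _ K p m).symm
  refine (congrArg (g.app U) (ha U p m)).trans ?_
  rw [← HomCohLib.happ_mapR,
    show (mapR K g).app U (ψ.app U p) = (tau σ e O ≫ i).app U p from congrArg (fun z => Scheme.Modules.Hom.app z U p) hψ,
    show (tau σ e O ≫ i).app U p = i.app U ((tau σ e O).app U p) from rfl, hi, HomCohLib.happ_smul_left,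
    ← HomCohLib.toHom_app, HomCohLib.toHom_ofHom]
  rfl

theorem shift_step {c : ℕ} {E F : (ℙk).Modules} (g : E ⟶ F) [Epi g] (h₁ : EssZero σ k (c + 1) (kernel g))
    (h₂ : ∃ m₀, ∀ m, m₀ ≤ m → ∀ j, j < c → Subsingleton (Coh.HH (ℙk) ((W (Ok (-(q : ℤ))) m).obj E) j)) :
    EssZero σ k c F :=
  EssZero.shift (T := Ok (-(q : ℤ))) (σ := σ) (isInv_tw (N := N) (k := k) (q := q))
    (S := ShortComplex.mk (kernel.ι g) g (kernel.condition g))
    (ShortComplex.ShortExact.mk (ShortComplex.exact_kernel g)) h₁ h₂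

/-- Bounded projective dimension off the zeros of `σ` gives essentially zero systems. -/
theorem essZero_of_pdlt (hq : 1 ≤ q) (hσ : HasCharts σ) : ∀ (r c : ℕ), c + r ≤ N → ∀ F : (ℙk).Modules, Coh.IsCoh F →
    (∀ y, Inv σ y → CommAlgDim.PDLT ((ℙk).presheaf.stalk y) (F.presheaf.stalk y) (r + 1)) → EssZero σ k c F := by
  intro r
  induction r with
  | zero =>
    intro c hc F hF h
    obtain ⟨E, g, hE, hg, hK⟩ := LefFlatLib.exists_good_epi N k F hF
    haveI := hg
    haveI := LefFlatLib.isLocallyNoetherian_projSpace N k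
    obtain ⟨e, a, ha⟩ := exists_lift hq hσ (LocSuppLib.isCoh_of_isFinLocFree hE.1) hF g fun y hy =>
      CommAlgDim.pdlt_one_iff.1 (h y hy)
    exact essZero_of_factor a g ha (exists_W_vanishing hq (hE.2 c (by omega)).1)
  | succ r ih =>
    intro c hc F hF h
    obtain ⟨E, g, hE, hg, hK⟩ := LefFlatLib.exists_good_epi N k F hF
    haveI := hg
    exact shift_step g (ih (c + 1) (by omega) (kernel g) hK fun y hy =>
      (LefFlatLib.pdlt_kernel_iff N k g hE.1 y r).1 (h y hy)) (exists_W_vanishing hq (hE.2 c (by omega)).1)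

/-- A module vanishing where `σ` is invertible has essentially zero twists in all degrees. -/
theorem essZero_of_support (hσ : HasCharts σ) (c : ℕ) (F : (ℙk).Modules) (hF : Coh.IsCoh F)
    (h : ∀ y, Inv σ y → Subsingleton (F.presheaf.stalk y)) : EssZero σ k c F := by
  haveI := LefFlatLib.compactSpace_projSpace N k
  haveI := hF.1
  obtain ⟨e, he⟩ := tau_eq_zero hσ F hF.2 h
  exact essZero_of_mulApp_eq_zero (mulApp_eq_zero_of_tau (t := exists_genVals hσ) he)

end EssZeroLib
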