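import Groth.Agent.EssZeroLib.CohMain
import Groth.Agent.EssZeroLib.OffZeros
import Groth.Agent.HomCohLib.FullyFaithful
import Groth.Agent.LocSuppLib.DepthTwo
import Groth.Agent.CohCmpLib.PuSec

/-!
# Formal sections along the zeros of a section of an ample module
-/

set_option autoImplicit false
set_option linter.unusedSectionVars false
set_option maxHeartbeats 1000000
set_option backward.isDefEq.respectTransparency false
set_option backward.isDefEq.respectTransparency.types false
universe u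

open CategoryTheory CategoryTheory.Limits AlgebraicGeometry TopologicalSpace Opposite
open KFlatLib (puSec)

noncomputable section

namespace EssZeroLib

theorem unit_transition {A B X : Scheme.{u}} {a : A ⟶ B} {b : B ⟶ X} {c : A ⟶ X} (w : a ≫ b = c) (M : X.Modules) :
    (Scheme.Modules.pullbackPushforwardAdjunction b).unit.app M ≫
      ((Scheme.Modules.pushforward b).map
          ((Scheme.Modules.pullbackPushforwardAdjunction a).unit.app ((Scheme.Modules.pullback b).obj M)) ≫
        (Scheme.Modules.pushforwardComp a b).hom.app _ ≫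
        (Scheme.Modules.pushforwardCongr w).hom.app _ ≫
        (Scheme.Modules.pushforward c).map
          ((Scheme.Modules.pullbackComp a b).app M ≪≫ (Scheme.Modules.pullbackCongr w).app M).hom) =
      (Scheme.Modules.pullbackPushforwardAdjunction c).unit.app M := by
  subst w
  refine Scheme.Modules.hom_ext _ _ fun U => ?_
  ext m
  show ((Scheme.Modules.pullbackComp a b).hom.app M ≫ (Scheme.Modules.pullbackCongr rfl).hom.app M).app
      ((a ≫ b) ⁻¹ᵁ U) (((Scheme.Modules.pullback a).obj ((Scheme.Modules.pullback b).obj M)).presheaf.map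
        (eqToHom rfl).op (puSec a (puSec b m))) = puSec (a ≫ b) m
  rw [eqToHom_refl, op_id, CategoryTheory.Functor.map_id]
  exact CohCmpLib.pullbackComp_puSec a b M m

theorem depth_two_of_closed {X : Scheme.{u}} {x : X} (hx : IsClosed ({x} : Set X)) {e : ℕ∞}
    (h : (1 : WithBot ℕ∞) < (e : WithBot ℕ∞) + topologicalKrullDim ↥(closure ({x} : Set X))) : 2 ≤ e := by
  have h0 : topologicalKrullDim ↥(closure ({x} : Set X)) ≤ 0 := by
    rw [hx.closure_eq]
    exact topologicalKrullDim_zero_of_discreteTopology ({x} : Set X)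
  have h1 : (1 : WithBot ℕ∞) < (e : WithBot ℕ∞) := h.trans_le (add_le_of_nonpos_right h0)
  exact Order.add_one_le_of_lt (by exact_mod_cast h1 : (1 : ℕ∞) < e)

variable {k : Type u} [Field k] {X : Scheme.{u}} [X.Over (Spec (CommRingCat.of k))]

/-- Sections over a large open are the compatible systems of sections of the quotients. -/
theorem formal_sections {F : X.Modules} {Q : ℕ → X.Modules} (π : ∀ m, F ⟶ Q m) [∀ m, Epi (π m)]
    (t : ∀ m, Q (m + 1) ⟶ Q m) (ht : ∀ m, π (m + 1) ≫ t m = π m)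
    (hz : ∀ p : ℕ, ∃ q : ℕ, p ≤ q ∧ ZeroStepMod k 1 (π q) (π p)) (V : X.Opens)
    (hF : Function.Bijective (F.presheaf.map (homOfLE (le_top : V ≤ ⊤)).op))
    (hQ : ∀ m, Function.Bijective ((Q m).presheaf.map (homOfLE (le_top : V ≤ ⊤)).op)) :
    (∀ σ : Γ(F, V), (∀ m, (π m).app V σ = 0) → σ = 0) ∧
    (∀ y : ∀ m, Γ(Q m, V), (∀ m, (t m).app V (y (m + 1)) = y m) → ∃ σ : Γ(F, V), ∀ m, (π m).app V σ = y m) := by
  have hmap : ∀ {A B : X.Modules} (g : A ⟶ B) (x : Coh.HH X A 0),
      HomCohLib.hh0 B (CurvLib.hMap (k := k) g 0 x) = g.app ⊤ (HomCohLib.hh0 A x) := fun g x =>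
    HomCohLib.hh0_map g x
  refine ⟨fun σ hσ => ?_, fun y hy => ?_⟩
  · obtain ⟨σ, rfl⟩ := hF.2 σ
    obtain ⟨x, rfl⟩ := (HomCohLib.hh0 F).surjective σ
    rw [injective_limit_mod (k := k) π hz 0 zero_le_one x fun m => (HomCohLib.hh0 (Q m)).injective ((hQ m).1 ?_),
      map_zero, map_zero]
    rw [hmap, map_zero, map_zero]
    exact (QCohLib.app_map (π m) (homOfLE (le_top : V ≤ ⊤)) _).symm.trans (hσ m)
  · choose y' hy' using fun m => (hQ m).2 (y m)
    obtain ⟨x, hx⟩ := surjective_limit_mod (k := k) π t ht hz 0 Nat.one_pos (fun m => (HomCohLib.hh0 (Q m)).symm (y' m))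
      fun m => (HomCohLib.hh0 (Q m)).injective ((hQ m).1 (by
        rw [hmap, AddEquiv.apply_symm_apply, AddEquiv.apply_symm_apply]
        refine (QCohLib.app_map (t m) (homOfLE (le_top : V ≤ ⊤)) _).symm.trans ?_
        rw [hy', hy', hy]))
    refine ⟨F.presheaf.map (homOfLE (le_top : V ≤ ⊤)).op (HomCohLib.hh0 F x), fun m => ?_⟩
    refine (QCohLib.app_map (π m) (homOfLE (le_top : V ≤ ⊤)) _).trans ?_
    rw [← hmap, hx m, AddEquiv.apply_symm_apply, hy']

/-- Sections of an inverse image over an open containing the closed subscheme are global. -/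
theorem bijective_res_push {Z : Scheme.{u}} (i : Z ⟶ X) (M : Z.Modules) {V : X.Opens} (hV : Set.range i ⊆ V) :
    Function.Bijective
      (((Scheme.Modules.pushforward i).obj M).presheaf.map (homOfLE (le_top : V ≤ ⊤)).op) := by
  have e : i ⁻¹ᵁ V = (⊤ : Z.Opens) := top_le_iff.1 fun z _ => hV ⟨z, rfl⟩
  show Function.Bijective (M.presheaf.map ((Opens.map i.base).map (homOfLE (le_top : V ≤ ⊤))).op)
  have : IsIso ((Opens.map i.base).map (homOfLE (le_top : V ≤ ⊤))) :=
    ⟨homOfLE e.ge, Subsingleton.elim _ _, Subsingleton.elim _ _⟩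
  exact ConcreteCategory.bijective_of_isIso _

/-- The same for a system of closed immersions with a module on each. -/
theorem formal_sections_system {F : X.Modules} {Z : ℕ → Scheme.{u}} (ι : ∀ n, Z n ⟶ Z (n + 1)) (c : ∀ n, Z n ⟶ X)
    (w : ∀ n, ι n ≫ c (n + 1) = c n) (G : ∀ n, (Z n).Modules)
    (e : ∀ n, (Scheme.Modules.pullback (ι n)).obj (G (n + 1)) ≅ G n)
    (π : ∀ n, F ⟶ (Scheme.Modules.pushforward (c n)).obj (G n)) [∀ n, Epi (π n)]
    (ht : ∀ n, π (n + 1) ≫ ((Scheme.Modules.pushforward (c (n + 1))).map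
          ((Scheme.Modules.pullbackPushforwardAdjunction (ι n)).unit.app (G (n + 1))) ≫
        (Scheme.Modules.pushforwardComp (ι n) (c (n + 1))).hom.app ((Scheme.Modules.pullback (ι n)).obj (G (n + 1))) ≫
        (Scheme.Modules.pushforwardCongr (w n)).hom.app ((Scheme.Modules.pullback (ι n)).obj (G (n + 1))) ≫
        (Scheme.Modules.pushforward (c n)).map (e n).hom) = π n)
    (hz : ∀ p : ℕ, ∃ q : ℕ, p ≤ q ∧ ZeroStepMod k 1 (π q) (π p)) (V : X.Opens)
    (hV : ∀ n, Set.range (c n) ⊆ (V : Set X))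
    (hF : Function.Bijective (F.presheaf.map (homOfLE (le_top : V ≤ ⊤)).op)) :
    (∀ σ : Γ(F, V), (∀ n : ℕ, (π n).app V σ = 0) → σ = 0) ∧
    (∀ y : (∀ n : ℕ, Γ((Scheme.Modules.pushforward (c n)).obj (G n), V)),
      (∀ n : ℕ, ((Scheme.Modules.pushforward (c (n + 1))).map
          ((Scheme.Modules.pullbackPushforwardAdjunction (ι n)).unit.app (G (n + 1))) ≫
        (Scheme.Modules.pushforwardComp (ι n) (c (n + 1))).hom.app ((Scheme.Modules.pullback (ι n)).obj (G (n + 1))) ≫
        (Scheme.Modules.pushforwardCongr (w n)).hom.app ((Scheme.Modules.pullback (ι n)).obj (G (n + 1))) ≫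
        (Scheme.Modules.pushforward (c n)).map (e n).hom).app V (y (n + 1)) = y n) →
      ∃ σ : Γ(F, V), ∀ n : ℕ, (π n).app V σ = y n) :=
  formal_sections π _ ht hz V hF (fun n => bijective_res_push _ _ (hV n))

/-- The system of inverse images of a module. -/
def stdMod (𝔛 : FSch.Sys.{u}) (c : ∀ n, 𝔛.X n ⟶ X) (w : ∀ n, 𝔛.ι n ≫ c (n + 1) = c n) (F : X.Modules) :
    FSch.ModSys 𝔛 where
  F n := (Scheme.Modules.pullback (c n)).obj F
  e n := (Scheme.Modules.pullbackComp (𝔛.ι n) (c (n + 1))).app F ≪≫ (Scheme.Modules.pullbackCongr (w n)).app F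

set_option maxHeartbeats 4000000 in
/-- The same for the system of inverse images. -/
theorem formal_sections_std {F : X.Modules} (𝔛 : FSch.Sys.{u}) (c : ∀ n, 𝔛.X n ⟶ X)
    (w : ∀ n, 𝔛.ι n ≫ c (n + 1) = c n) (hc : ∀ n, IsClosedImmersion (c n))
    (hz : ∀ p : ℕ, ∃ q : ℕ, p ≤ q ∧ ZeroStepMod k 1 ((Scheme.Modules.pullbackPushforwardAdjunction (c q)).unit.app F)
      ((Scheme.Modules.pullbackPushforwardAdjunction (c p)).unit.app F)) (V : X.Opens)
    (hV : ∀ n, Set.range (c n) ⊆ (V : Set X))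
    (hF : Function.Bijective (F.presheaf.map (homOfLE (le_top : V ≤ ⊤)).op)) :
    (∀ σ : (Scheme.Modules.presheaf F).obj (Opposite.op V),
      (∀ n : ℕ, Scheme.Modules.Hom.app ((Scheme.Modules.pullbackPushforwardAdjunction (c n)).unit.app F) V σ = 0) → σ = 0) ∧
    (∀ y : (∀ n : ℕ, (Scheme.Modules.presheaf ((Scheme.Modules.pushforward (c n)).obj ((stdMod 𝔛 c w F).F n))).obj (Opposite.op V)),
      (∀ n : ℕ, Scheme.Modules.Hom.app
          ((Scheme.Modules.pushforward (c (n + 1))).map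
            ((Scheme.Modules.pullbackPushforwardAdjunction (𝔛.ι n)).unit.app ((stdMod 𝔛 c w F).F (n + 1))) ≫
          (Scheme.Modules.pushforwardComp (𝔛.ι n) (c (n + 1))).hom.app _ ≫
          (Scheme.Modules.pushforwardCongr (w n)).hom.app _ ≫
          (Scheme.Modules.pushforward (c n)).map ((stdMod 𝔛 c w F).e n).hom) V (y (n + 1)) = y n) →
        ∃ σ : (Scheme.Modules.presheaf F).obj (Opposite.op V),
          ∀ n : ℕ, Scheme.Modules.Hom.app ((Scheme.Modules.pullbackPushforwardAdjunction (c n)).unit.app F) V σ = y n) := by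
  haveI := hc
  haveI : ∀ n, Epi ((Scheme.Modules.pullbackPushforwardAdjunction (c n)).unit.app F) := fun n =>
    DefClassLib.epi_unit _ F
  exact formal_sections_system (k := k) 𝔛.ι c w (stdMod 𝔛 c w F).F (stdMod 𝔛 c w F).e
    (fun n => (Scheme.Modules.pullbackPushforwardAdjunction (c n)).unit.app F)
    (fun n => unit_transition (w n) F) hz V hV hF

set_option maxHeartbeats 4000000 in
/-- The same, for a system given equal to the inverse images. -/
theorem formal_sections_modSys {F : X.Modules} (𝔛 : FSch.Sys.{u}) (c : ∀ n, 𝔛.X n ⟶ X)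
    (w : ∀ n, 𝔛.ι n ≫ c (n + 1) = c n) (𝔐 : FSch.ModSys 𝔛) (h : 𝔐 = stdMod 𝔛 c w F)
    (π : ∀ n, F ⟶ (Scheme.Modules.pushforward (c n)).obj (𝔐.F n))
    (hπ : HEq π (fun n => (Scheme.Modules.pullbackPushforwardAdjunction (c n)).unit.app F))
    (g : ∀ n, Scheme.Modules.pushforward (𝔛.ι n ≫ c (n + 1)) ≅ Scheme.Modules.pushforward (c n))
    (hg : ∀ n, g n = Scheme.Modules.pushforwardCongr (w n))
    (hc : ∀ n, IsClosedImmersion (c n))
    (hz : ∀ p : ℕ, ∃ q : ℕ, p ≤ q ∧ ZeroStepMod k 1 ((Scheme.Modules.pullbackPushforwardAdjunction (c q)).unit.app F)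
      ((Scheme.Modules.pullbackPushforwardAdjunction (c p)).unit.app F)) (V : X.Opens)
    (hV : ∀ n, Set.range (c n) ⊆ (V : Set X))
    (hF : Function.Bijective (F.presheaf.map (homOfLE (le_top : V ≤ ⊤)).op)) :
    (∀ σ : Γ(F, V), (∀ n : ℕ, (π n).app V σ = 0) → σ = 0) ∧
    (∀ y : (∀ n : ℕ, Γ((Scheme.Modules.pushforward (c n)).obj (𝔐.F n), V)),
      (∀ n : ℕ, ((Scheme.Modules.pushforward (c (n + 1))).map
          ((Scheme.Modules.pullbackPushforwardAdjunction (𝔛.ι n)).unit.app (𝔐.F (n + 1))) ≫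
        (Scheme.Modules.pushforwardComp (𝔛.ι n) (c (n + 1))).hom.app
          ((Scheme.Modules.pullback (𝔛.ι n)).obj (𝔐.F (n + 1))) ≫
        (g n).hom.app ((Scheme.Modules.pullback (𝔛.ι n)).obj (𝔐.F (n + 1))) ≫
        (Scheme.Modules.pushforward (c n)).map (𝔐.e n).hom).app V (y (n + 1)) = y n) →
      ∃ σ : Γ(F, V), ∀ n : ℕ, (π n).app V σ = y n) := by
  subst h
  obtain rfl := eq_of_heq hπ
  obtain rfl : g = fun n => Scheme.Modules.pushforwardCongr (w n) := funext hg
  exact formal_sections_std 𝔛 c w hc hz V hV hF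

variable (k) [IsProper (X ↘ Spec (CommRingCat.of k))]

include k in
theorem bijective_res_open {L : X.Modules} (hL : CohB1.IsAmple L) (s : Coh.structureModule X ⟶ L) {F : X.Modules}
    (hF : Coh.IsCoh F)
    (hd : ∀ x : X, x ∉ ((PicF2.zeroScheme L s).support : Set X) →
      (1 : WithBot ℕ∞) < (LocCoh.depth (X.presheaf.stalk x) (F.presheaf.stalk x) : WithBot ℕ∞) +
        topologicalKrullDim ↥(closure ({x} : Set X)))
    {V : X.Opens} (hV : ((PicF2.zeroScheme L s).support : Set X) ⊆ (V : Set X)) :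
    Function.Bijective (F.presheaf.map (homOfLE (le_top : V ≤ ⊤)).op) := by
  haveI := CurvLib.isNoetherian k (X := X)
  have hdis : ∀ x ∈ (V : Set X)ᶜ, x ∉ (PicF2.zeroScheme L s).support := fun x hx h => hx (hV h)
  have h2 := (LocSuppLib.depth_two_iff_bijective V hF).1 (fun x hx => depth_two_of_closed
    (isClosed_singleton_of_disjoint_zeros k hL s V.2.isClosed_compl hdis hx) (hd x (hdis x hx))) ⊤
  have hi : IsIso (homOfLE (show V ≤ ⊤ ⊓ V from le_inf le_top le_rfl)) :=
    ⟨homOfLE inf_le_right, Subsingleton.elim _ _, Subsingleton.elim _ _⟩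
  have h3 : Function.Bijective (F.presheaf.map (homOfLE (show V ≤ ⊤ ⊓ V from le_inf le_top le_rfl)).op) :=
    ConcreteCategory.bijective_of_isIso _
  have := h3.comp h2
  rw [show (homOfLE (le_top : V ≤ ⊤)).op = (homOfLE (inf_le_left : ⊤ ⊓ V ≤ ⊤)).op ≫
    (homOfLE (show V ≤ ⊤ ⊓ V from le_inf le_top le_rfl)).op from rfl, Functor.map_comp]
  exact this

end EssZeroLib
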