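import Groth.Agent.EssZeroLib.Ideal
import Groth.Agent.CurvLib.EulerTensor

/-!
# Dimension shifting for essentially zero systems
-/

set_option autoImplicit false
set_option linter.unusedSectionVars false
set_option maxHeartbeats 1000000
set_option backward.isDefEq.respectTransparency false
set_option backward.isDefEq.respectTransparency.types false
universe u

open CategoryTheory CategoryTheory.Limits AlgebraicGeometry TopologicalSpace Opposite
open ProjFormLib (tF ger ger_res ger_smul ger_map exists_ger)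
open CohCmpLib (stk)
open PnDualLib (sm)

noncomputable section

namespace EssZeroLib

variable {X : Scheme.{u}} {T : X.Modules}

instance additive_W : ∀ m : ℕ, (W T m).Additive
  | 0 => inferInstanceAs (𝟭 X.Modules).Additive
  | m + 1 => by
    haveI := additive_W m
    haveI : (tF T).Additive := inferInstanceAs ((DCoh.tensorBi (X := X)).obj T).Additive
    exact inferInstanceAs (W T m ⋙ tF T).Additive

theorem map_comp_shortExact {C D E : Type*} [Category* C] [Category* D] [Category* E] [HasZeroMorphisms C]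
    [HasZeroMorphisms D] [HasZeroMorphisms E] (F : C ⥤ D) (G : D ⥤ E) [F.PreservesZeroMorphisms]
    [G.PreservesZeroMorphisms] [(F ⋙ G).PreservesZeroMorphisms] {S : ShortComplex C}
    (h : ((S.map F).map G).ShortExact) : (S.map (F ⋙ G)).ShortExact := h

theorem shortExact_W (hT : FlatMod.IsFinLocFree T) {S : ShortComplex X.Modules} (hS : S.ShortExact) (m : ℕ) :
    (S.map (W T m)).ShortExact := by
  haveI : (tF T).Additive := inferInstanceAs ((DCoh.tensorBi (X := X)).obj T).Additive
  induction m with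
  | zero => exact hS
  | succ m ih => exact map_comp_shortExact (W T m) (tF T) (ProjFormLib.shortExact_tens hT ih)

theorem isFinLocFree_W_one (hT : PicF.IsInvertible T) : ∀ m : ℕ,
    PicF.IsInvertible ((W T m).obj (Coh.structureModule X))
  | 0 => CubeConsLib.isInvertible_one _
  | m + 1 => HilbPolyLib.isInvertible_tensor hT (isFinLocFree_W_one hT m)

variable {k : Type u} [Field k] [X.Over (Spec (CommRingCat.of k))] {σ : T ⟶ Coh.structureModule X}

/-- A multiplication factoring through a module without cohomology in the given degrees. -/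
theorem essZero_of_factor {c e : ℕ} {F V : X.Modules}
    (a : (tF ((W T e).obj (Coh.structureModule X))).obj F ⟶ V) (b : V ⟶ F)
    (hab : a ≫ b = mulApp (tau σ e (Coh.structureModule X)) F)
    (hV : ∃ m₀, ∀ m, m₀ ≤ m → ∀ j, j < c → Subsingleton (Coh.HH X ((W T m).obj V) j)) : EssZero σ k c F := by
  obtain ⟨m₀, hV⟩ := hV
  refine ⟨e, m₀, fun m hm j hj x => ?_⟩
  rw [← hab, Functor.map_comp, CurvLib.hMap_comp, (hV m hm j hj).elim (CurvLib.hMap (k := k) _ j x) 0, map_zero]

theorem mulApp_zero {P F : X.Modules} (s : P ⟶ Coh.structureModule X)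
    (h : ∀ (U : X.Opens) (a : Γ(P, U)) (b : Γ(F, U)), (show Γ(X, U) from s.app U a) • b = 0) : mulApp s F = 0 :=
  KFlatLib.tens_hom_ext fun U a b => (mulApp_shTm s F a b).trans (h U a b)

theorem mulApp_eq_zero_of_tau {e : ℕ} {t : ∀ y : X, ∃ (q : stk T y) (a : X.presheaf.stalk y), GenVal σ y q a}
    {F : X.Modules} (h : tau σ e F = 0) : mulApp (tau σ e (Coh.structureModule X)) F = 0 := by
  refine eq_zero_of_stalks _ fun y v => ?_
  obtain ⟨q, a, hqa⟩ := t y
  obtain ⟨q', hq'⟩ := exists_genVal_pow hqa e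
  obtain ⟨w, rfl⟩ := (PnDualLib.bijective_ins _ F y q' hq'.1).2 v
  obtain ⟨p, -, hp⟩ := exists_model hqa F e
  rw [sm_mulApp_ins hq'.2, ← hp, h, PnDualLib.sm_zero, LinearMap.zero_apply]

theorem essZero_of_mulApp_eq_zero {c e : ℕ} {F : X.Modules}
    (h : mulApp (tau σ e (Coh.structureModule X)) F = 0) : EssZero σ k c F :=
  ⟨e, 0, fun m _ j _ x => by rw [h, Functor.map_zero, hMap_zero]⟩

/-- The step of dimension shifting. -/
theorem EssZero.shift (hT : PicF.IsInvertible T) {c : ℕ} {S : ShortComplex X.Modules} (hS : S.ShortExact)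
    (h₁ : EssZero σ k (c + 1) S.X₁)
    (h₂ : ∃ m₀, ∀ m, m₀ ≤ m → ∀ j, j < c → Subsingleton (Coh.HH X ((W T m).obj S.X₂) j)) :
    EssZero σ k c S.X₃ := by
  obtain ⟨e, m₁, h₁⟩ := h₁
  obtain ⟨m₂, h₂⟩ := h₂
  let P := (W T e).obj (Coh.structureModule X)
  let s := tau σ e (Coh.structureModule X)
  refine ⟨e, max m₁ m₂, fun m hm j hj x => ?_⟩
  have hTl := AmpleDevLib.isFinLocFree_of_isInvertible hT
  have hP := AmpleDevLib.isFinLocFree_of_isInvertible (isFinLocFree_W_one hT e)
  have hA : ((S.map (tF P)).map (W T m)).ShortExact := shortExact_W hTl (ProjFormLib.shortExact_tens hP hS) m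
  have hB : (S.map (W T m)).ShortExact := shortExact_W hTl hS m
  let φ : S.map (tF P) ⟶ S :=
    ShortComplex.homMk (mulApp s S.X₁) (mulApp s S.X₂) (mulApp s S.X₃)
      (mulApp_naturality s S.f).symm (mulApp_naturality s S.g).symm
  let ψ := (W T m).mapShortComplex.map φ
  have hd := hDel_natural (k := k) hA hB ψ j x
  have hz := h₁ m (le_trans (le_max_left _ _) hm) (j + 1) (by omega) (CurvLib.hDel (k := k) hA j x)
  have hmem : CurvLib.hMap (k := k) ψ.τ₃ j x ∈ LinearMap.ker (CurvLib.hDel (k := k) hB j) := hd.trans hz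
  rw [← CurvLib.exact₃] at hmem
  obtain ⟨w, hw⟩ := hmem
  refine hw.symm.trans ?_
  rw [(h₂ m (le_trans (le_max_right _ _) hm) j hj).elim w 0, map_zero]

end EssZeroLib
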